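import Cfsg.Agent.H496.TwoFrob
import Cfsg.Agent.S4252
import Cfsg.Agent.Solvable.FrobeniusKernel
import Cfsg.Agent.HKS.ModPSpec
import Cfsg.Agent.Fischer160.Srg
import Mathlib
set_option linter.all false

-- part: H90/R3/Basic
section
/-!
# Rank three groups with a Frobenius suborbit: basic structure
-/

set_option autoImplicit false

namespace Cfsg.Agent.H90.R3

open Subgroup

/-- double counting -/
theorem dc {α β : Type*} [Finite α] [Finite β] (r : α → β → Prop) {x y : ℕ}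
    (h1 : ∀ a, Nat.card {b // r a b} = x) (h2 : ∀ b, Nat.card {a // r a b} = y) :
    Nat.card α * x = Nat.card β * y := by
  have e1 : Nat.card (Σ a : α, {b // r a b}) = Nat.card α * x := by
    have := Fintype.ofFinite α
    rw [Nat.card_sigma, Finset.sum_congr rfl (fun a _ => h1 a), Finset.sum_const, Finset.card_univ,
      smul_eq_mul, Nat.card_eq_fintype_card]
  have e2 : Nat.card (Σ b : β, {a // r a b}) = Nat.card β * y := by
    have := Fintype.ofFinite β
    rw [Nat.card_sigma, Finset.sum_congr rfl (fun a _ => h2 a), Finset.sum_const, Finset.card_univ,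
      smul_eq_mul, Nat.card_eq_fintype_card]
  rw [← e1, ← e2]
  refine Nat.card_congr ⟨fun p => ⟨p.2.1, p.1, p.2.2⟩, fun p => ⟨p.2.1, p.1, p.2.2⟩, ?_, ?_⟩
  · rintro ⟨a, b, h⟩; rfl
  · rintro ⟨a, b, h⟩; rfl

variable {G X : Type*} [Group G] [MulAction G X]

/-- a group element `g₀` moving `(P, Q)` to `(P', Q')` -/
theorem coset2 {P Q P' Q' : X} {g₀ : G} (h1 : g₀ • P = P') (h2 : g₀ • Q = Q') :
    Nat.card {g : G // g • P = P' ∧ g • Q = Q'} = Nat.card {g : G // g • P = P ∧ g • Q = Q} := by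
  refine Nat.card_congr ⟨fun g => ⟨g₀⁻¹ * g.1, ?_, ?_⟩, fun g => ⟨g₀ * g.1, ?_, ?_⟩, ?_, ?_⟩
  · rw [mul_smul, g.2.1, ← h1, inv_smul_smul]
  · rw [mul_smul, g.2.2, ← h2, inv_smul_smul]
  · rw [mul_smul, g.2.1, h1]
  · rw [mul_smul, g.2.2, h2]
  · intro g; simp
  · intro g; simp

theorem coset1 {P P' : X} {g₀ : G} (h1 : g₀ • P = P') :
    Nat.card {g : G // g • P = P'} = Nat.card {g : G // g • P = P} := by
  refine Nat.card_congr ⟨fun g => ⟨g₀⁻¹ * g.1, ?_⟩, fun g => ⟨g₀ * g.1, ?_⟩, ?_, ?_⟩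
  · rw [mul_smul, g.2, ← h1, inv_smul_smul]
  · rw [mul_smul, g.2, h1]
  · intro g; simp
  · intro g; simp

theorem conj2 {P Q P' Q' : X} {g₀ : G} (h1 : g₀ • P = P') (h2 : g₀ • Q = Q') :
    Nat.card {g : G // g • P' = P' ∧ g • Q' = Q'} = Nat.card {g : G // g • P = P ∧ g • Q = Q} := by
  have h1' : g₀⁻¹ • P' = P := by rw [← h1, inv_smul_smul]
  have h2' : g₀⁻¹ • Q' = Q := by rw [← h2, inv_smul_smul]
  refine Nat.card_congr ⟨fun g => ⟨g₀⁻¹ * g.1 * g₀, ?_, ?_⟩, fun g => ⟨g₀ * g.1 * g₀⁻¹, ?_, ?_⟩, ?_, ?_⟩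
  · rw [mul_smul, mul_smul, h1, g.2.1, h1']
  · rw [mul_smul, mul_smul, h2, g.2.2, h2']
  · rw [mul_smul, mul_smul, h1', g.2.1, h1]
  · rw [mul_smul, mul_smul, h2', g.2.2, h2]
  · intro g; apply Subtype.ext; simp [mul_assoc]
  · intro g; apply Subtype.ext; simp [mul_assoc]

theorem conj1 {P P' : X} {g₀ : G} (h1 : g₀ • P = P') :
    Nat.card {g : G // g • P' = P'} = Nat.card {g : G // g • P = P} := by
  have := conj2 (Q := P) (Q' := P') h1 h1
  simpa only [and_self_iff] using this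

variable (G X)

/-- Rank three data with a Frobenius suborbit. -/
structure Dat where
  Adj : X → X → Prop
  K : X → Subgroup G
  symm : ∀ {P Q}, Adj P Q → Adj Q P
  irr : ∀ P, ¬ Adj P P
  smul : ∀ (g : G) {P Q}, Adj P Q → Adj (g • P) (g • Q)
  tr : ∀ P Q : X, ∃ g : G, g • P = Q
  trA : ∀ {P Q P' Q'}, Adj P Q → Adj P' Q' → ∃ g : G, g • P = P' ∧ g • Q = Q'
  trN : ∀ {P Q P' Q'}, P ≠ Q → ¬ Adj P Q → P' ≠ Q' → ¬ Adj P' Q' → ∃ g : G, g • P = P' ∧ g • Q = Q'
  free : ∀ {g : G} {P Q Q'}, g • P = P → Adj P Q → g • Q = Q → Adj P Q' → g • Q' = Q' → Q ≠ Q' → g = 1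
  nfree : ∀ {P Q}, Adj P Q → ∃ g : G, g ≠ 1 ∧ g • P = P ∧ g • Q = Q
  exA : ∀ P, ∃ Q, Adj P Q
  exN : ∀ P, ∃ Q, P ≠ Q ∧ ¬ Adj P Q
  blA : ∀ P, ∃ Q R, Adj P Q ∧ Adj P R ∧ Q ≠ R ∧ ¬ Adj Q R
  blN : ∀ P, ∃ Q R, P ≠ Q ∧ ¬ Adj P Q ∧ P ≠ R ∧ ¬ Adj P R ∧ Adj Q R
  mem_K : ∀ {P} {g : G}, g ∈ K P ↔ g • P = P ∧ (g = 1 ∨ ∀ Q, Adj P Q → g • Q ≠ Q)
  nilp : ∀ P, Group.IsNilpotent (K P)

variable {G X}

/-- The numerical data. -/
structure Num (D : Dat G X) (n k l f d : ℕ) : Prop where
  cX : Nat.card X = n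
  cA : ∀ P, Nat.card {Q // D.Adj P Q} = k
  cN : ∀ P, Nat.card {Q // P ≠ Q ∧ ¬ D.Adj P Q} = l
  sA : ∀ {P Q}, D.Adj P Q → Nat.card {g : G // g • P = P ∧ g • Q = Q} = f
  sN : ∀ {P Q}, P ≠ Q → ¬ D.Adj P Q → Nat.card {g : G // g • P = P ∧ g • Q = Q} = d
  cS : ∀ P : X, Nat.card {g : G // g • P = P} = k * f
  cS' : k * f = l * d
  cK : ∀ P, Nat.card (D.K P) = k
  cop : k.Coprime f
  dvd : f ∣ k - 1
  cG : Nat.card G = n * (k * f)
  sum : n = 1 + k + l
  f2 : 2 ≤ f
  k2 : 2 ≤ k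
  l1 : 1 ≤ l

/-- neighbours as a set with an action of the stabilizer -/
def nbr (Adj : X → X → Prop) (hs : ∀ (g : G) {P Q}, Adj P Q → Adj (g • P) (g • Q)) (P : X) :
    SubMulAction (MulAction.stabilizer G P) X where
  carrier := {Q | Adj P Q}
  smul_mem' := by
    rintro ⟨g, hg⟩ Q hQ
    have h1 := hs g hQ
    rw [MulAction.mem_stabilizer_iff.1 hg] at h1
    exact h1

section

variable [Finite G]

/-- existence of the Frobenius kernel -/
theorem exists_kernel [Finite X] (Adj : X → X → Prop) (hs : ∀ (g : G) {P Q}, Adj P Q → Adj (g • P) (g • Q))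
    (trA : ∀ {P Q P' Q'}, Adj P Q → Adj P' Q' → ∃ g : G, g • P = P' ∧ g • Q = Q')
    (free : ∀ {g : G} {P Q Q'}, g • P = P → Adj P Q → g • Q = Q → Adj P Q' → g • Q' = Q' → Q ≠ Q' → g = 1)
    (nfree : ∀ {P Q}, Adj P Q → ∃ g : G, g ≠ 1 ∧ g • P = P ∧ g • Q = Q)
    (blA : ∀ P, ∃ Q R, Adj P Q ∧ Adj P R ∧ Q ≠ R ∧ ¬ Adj Q R) (P : X) :
    ∃ K : Subgroup G, (∀ g : G, g ∈ K ↔ g • P = P ∧ (g = 1 ∨ ∀ Q, Adj P Q → g • Q ≠ Q)) ∧
      Group.IsNilpotent K ∧ (Nat.card K = Nat.card {Q // Adj P Q}) ∧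
      (∀ Q, Adj P Q → (Nat.card K).Coprime (Nat.card {g : G // g • P = P ∧ g • Q = Q}) ∧
        Nat.card {g : G // g • P = P ∧ g • Q = Q} ∣ Nat.card K - 1) := by
  classical
  have := Fintype.ofFinite X
  set Ω := nbr Adj hs P with hΩ
  have hmem : ∀ Q : X, Q ∈ Ω ↔ Adj P Q := fun Q => Iff.rfl
  obtain ⟨Q₀, R₀, hQ₀, hR₀, hne, -⟩ := blA P
  have := Fintype.ofFinite Ω
  have h1 : 1 < Fintype.card Ω :=
    Fintype.one_lt_card_iff.2 ⟨⟨Q₀, hQ₀⟩, ⟨R₀, hR₀⟩, fun h => hne (congrArg Subtype.val h)⟩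
  have htr : ∀ a b : Ω, ∃ g : MulAction.stabilizer G P, g • a = b := by
    rintro ⟨a, ha⟩ ⟨b, hb⟩
    obtain ⟨g, hg1, hg2⟩ := trA ((hmem a).1 ha) ((hmem b).1 hb)
    exact ⟨⟨g, hg1⟩, Subtype.ext hg2⟩
  have hnr : ∃ g : MulAction.stabilizer G P, g ≠ 1 ∧ ∃ a : Ω, g • a = a := by
    obtain ⟨g, hg1, hg2, hg3⟩ := nfree hQ₀
    exact ⟨⟨g, hg2⟩, fun h => hg1 (congrArg Subtype.val h), ⟨Q₀, hQ₀⟩, Subtype.ext hg3⟩
  have hfx : ∀ g : MulAction.stabilizer G P, g ≠ 1 → ∀ a b : Ω, g • a = a → g • b = b → a = b := by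
    rintro ⟨g, hg⟩ hg1 ⟨a, ha⟩ ⟨b, hb⟩ h2 h3
    by_contra hab
    exact hg1 (Subtype.ext (free hg ((hmem a).1 ha) (congrArg Subtype.val h2) ((hmem b).1 hb) (congrArg Subtype.val h3)
      (fun h => hab (Subtype.ext h))))
  have key := fun a : Ω => S4252.result h1 htr hnr hfx a
  obtain ⟨hC, hker⟩ := key ⟨Q₀, hQ₀⟩
  obtain ⟨N, hN, -⟩ := Cfsg.Agent.S0035.result _ hC
  obtain ⟨hNn, hnil, hcomp, -, -, hcop⟩ := H496.TwoFrob.basic hC hN.symm
  have hNm : ∀ g : MulAction.stabilizer G P, g ∈ N ↔ g = 1 ∨ ∀ a : Ω, g • a ≠ a := by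
    intro g
    rw [← SetLike.mem_coe, hN, hker]
    rfl
  have hcN : Nat.card (N.map (MulAction.stabilizer G P).subtype) = Nat.card N :=
    Subgroup.card_map_of_injective (subtype_injective _)
  have hidx : Nat.card N = Nat.card {Q // Adj P Q} := by
    rw [← hcomp.index_eq_card, MulAction.index_stabilizer]
    have : MulAction.orbit (MulAction.stabilizer G P) (⟨Q₀, hQ₀⟩ : Ω) = Set.univ := by
      rw [Set.eq_univ_iff_forall]
      exact fun b => htr _ b
    rw [this, Set.ncard_univ]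
    rfl
  have hst : ∀ Q (hQ : Adj P Q), Nat.card (MulAction.stabilizer (MulAction.stabilizer G P) (⟨Q, hQ⟩ : Ω)) =
      Nat.card {g : G // g • P = P ∧ g • Q = Q} := by
    intro Q hQ
    refine Nat.card_congr ⟨fun g => ⟨g.1.1, g.1.2, congrArg Subtype.val g.2⟩,
      fun g => ⟨⟨g.1, g.2.1⟩, Subtype.ext g.2.2⟩, fun g => rfl, fun g => rfl⟩
  refine ⟨N.map (MulAction.stabilizer G P).subtype, ?_, ?_, ?_, ?_⟩
  · intro g
    constructor
    · rintro ⟨⟨g, hg⟩, hgN, rfl⟩
      refine ⟨hg, ?_⟩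
      rcases (hNm _).1 hgN with h | h
      · left
        exact congrArg Subtype.val h
      · right
        intro Q hQ hgQ
        exact h ⟨Q, hQ⟩ (Subtype.ext hgQ)
    · rintro ⟨hg, h⟩
      refine ⟨⟨g, hg⟩, (hNm _).2 ?_, rfl⟩
      rcases h with h | h
      · left
        exact Subtype.ext h
      · right
        rintro ⟨Q, hQ⟩ hgQ
        exact h Q hQ (congrArg Subtype.val hgQ)
  · have := hnil
    exact Group.nilpotent_of_surjective ((MulAction.stabilizer G P).subtype.subgroupMap N)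
      (MonoidHom.subgroupMap_surjective _ N)
  · rw [hcN, hidx]
  · intro Q hQ
    obtain ⟨hC', -⟩ := key ⟨Q, hQ⟩
    have h3 := Cfsg.Agent.Solvable.FrobeniusKernel.coprime_index_card hC'
    have h4 := Cfsg.Agent.Solvable.FrobeniusKernel.card_dvd_index_sub_one hC'
    rw [hst Q hQ] at h3 h4
    have h5 : (MulAction.stabilizer (MulAction.stabilizer G P) (⟨Q, hQ⟩ : Ω)).index = Nat.card {Q // Adj P Q} := by
      rw [MulAction.index_stabilizer]
      have : MulAction.orbit (MulAction.stabilizer G P) (⟨Q, hQ⟩ : Ω) = Set.univ := by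
        rw [Set.eq_univ_iff_forall]
        exact fun b => htr _ b
      rw [this, Set.ncard_univ]
      rfl
    rw [hcN, hidx, ← h5]
    exact ⟨h3, h4⟩

end

namespace Dat

variable (D : Dat G X)

theorem adj_comm {P Q : X} : D.Adj P Q ↔ D.Adj Q P := ⟨D.symm, D.symm⟩

theorem adj_smul_iff (g : G) {P Q : X} : D.Adj (g • P) (g • Q) ↔ D.Adj P Q := by
  constructor
  · intro h
    have := D.smul g⁻¹ h
    rwa [inv_smul_smul, inv_smul_smul] at this
  · exact D.smul g

variable {D} in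
theorem ne_of_adj {P Q : X} (h : D.Adj P Q) : P ≠ Q := fun h' => D.irr P (by rw [← h'] at h; exact h)

theorem K_le {P : X} {g : G} (h : g ∈ D.K P) : g • P = P := (D.mem_K.1 h).1

theorem K_free {P Q : X} {g : G} (h : g ∈ D.K P) (hQ : D.Adj P Q) (hg : g • Q = Q) : g = 1 := by
  rcases (D.mem_K.1 h).2 with h1 | h1
  · exact h1
  · exact absurd hg (h1 Q hQ)

theorem conj_mem {P : X} {x : G} (hx : x ∈ D.K P) (g : G) : g * x * g⁻¹ ∈ D.K (g • P) := by
  rw [D.mem_K]
  refine ⟨?_, ?_⟩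
  · rw [mul_smul, mul_smul, inv_smul_smul, D.K_le hx]
  · by_cases h1 : x = 1
    · left
      rw [h1, mul_one, mul_inv_cancel]
    · right
      intro Q hQ h2
      apply h1
      have h3 : D.Adj P (g⁻¹ • Q) := by
        rw [← D.adj_smul_iff g, smul_inv_smul]
        exact hQ
      apply D.K_free hx h3
      rw [eq_inv_smul_iff, ← mul_smul, ← mul_smul]
      exact h2

theorem conj_mem' {P : X} {x g : G} (hx : x ∈ D.K P) (hg : g • P = P) : g * x * g⁻¹ ∈ D.K P := by
  have := D.conj_mem hx g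
  rwa [hg] at this

theorem conj_mem_iff {P : X} {x g : G} : g * x * g⁻¹ ∈ D.K (g • P) ↔ x ∈ D.K P := by
  constructor
  · intro h
    have := D.conj_mem h g⁻¹
    rw [inv_smul_smul] at this
    have e : g⁻¹ * (g * x * g⁻¹) * g⁻¹⁻¹ = x := by group
    rwa [e] at this
  · exact fun h => D.conj_mem h g

/-- centralizers of nonidentity elements of the kernel -/
theorem comm_mem {P : X} {x y : G} (hx : x ∈ D.K P) (hx1 : x ≠ 1) (hy : y • P = P) (h : y * x = x * y) :
    y ∈ D.K P := by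
  rw [D.mem_K]
  refine ⟨hy, ?_⟩
  by_contra hcon
  push Not at hcon
  obtain ⟨hy1, Q, hQ, hyQ⟩ := hcon
  apply hy1
  refine D.free hy hQ hyQ (Q' := x • Q) ?_ ?_ ?_
  · have := D.smul x hQ
    rwa [D.K_le hx] at this
  · rw [← mul_smul, h, mul_smul, hyQ]
  · intro h1
    exact hx1 (D.K_free hx hQ h1.symm)

end Dat

variable {D : Dat G X} {n k l f d : ℕ}

theorem Num.mem_K_of_pow [Finite G] (N : Num D n k l f d) {P : X} {y : G} (hy : y • P = P) {a : ℕ} (ha : a.Coprime f)
    (hya : y ^ a = 1) : y ∈ D.K P := by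
  rw [D.mem_K]
  refine ⟨hy, ?_⟩
  by_contra hcon
  push Not at hcon
  obtain ⟨hy1, Q, hQ, hyQ⟩ := hcon
  apply hy1
  have h1 : Nat.card ↥(MulAction.stabilizer G P ⊓ MulAction.stabilizer G Q) = f := by
    rw [← N.sA hQ]
    rfl
  have h2 : y ^ f = 1 := by
    have h3 : (⟨y, hy, hyQ⟩ : ↥(MulAction.stabilizer G P ⊓ MulAction.stabilizer G Q)) ^
        Nat.card ↥(MulAction.stabilizer G P ⊓ MulAction.stabilizer G Q) = 1 := pow_card_eq_one'
    rw [h1] at h3
    exact congrArg Subtype.val h3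
  have h4 : orderOf y ∣ Nat.gcd a f := Nat.dvd_gcd (orderOf_dvd_of_pow_eq_one hya) (orderOf_dvd_of_pow_eq_one h2)
  rw [ha.gcd_eq_one, Nat.dvd_one, orderOf_eq_one_iff] at h4
  exact h4

theorem Num.pow_k (N : Num D n k l f d) {P : X} {x : G} (hx : x ∈ D.K P) : x ^ k = 1 := by
  have h3 : (⟨x, hx⟩ : D.K P) ^ Nat.card (D.K P) = 1 := pow_card_eq_one'
  rw [N.cK P] at h3
  exact congrArg Subtype.val h3

/-- an element of a kernel lies in the kernel of each of its fixed points -/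
theorem Num.fix_mem [Finite G] (N : Num D n k l f d) {P R : X} {x : G} (hx : x ∈ D.K P) (hR : x • R = R) : x ∈ D.K R :=
  N.mem_K_of_pow hR N.cop (N.pow_k hx)

/-- the fixed points of a nonidentity element of a kernel are pairwise not adjacent -/
theorem Num.clique [Finite G] (N : Num D n k l f d) {P R R' : X} {x : G} (hx : x ∈ D.K P) (hx1 : x ≠ 1) (hR : x • R = R)
    (hR' : x • R' = R') : ¬ D.Adj R R' := fun h => hx1 (D.K_free (N.fix_mem hx hR) h hR')

/-- **Lemma N**: a nontrivial subgroup of the kernel which is normal in the point stabilizer fixes only one point. -/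
theorem Num.lemN [Finite G] (N : Num D n k l f d) {P : X} {Y : Subgroup G} (hY : Y ≤ D.K P) (hY1 : Y ≠ ⊥)
    (hn : ∀ g : G, g • P = P → ∀ y ∈ Y, g * y * g⁻¹ ∈ Y) {R : X} (hR : ∀ y ∈ Y, y • R = R) : R = P := by
  by_contra hne
  obtain ⟨y, hyY, hy1⟩ : ∃ y ∈ Y, y ≠ 1 := by
    obtain ⟨y, hy⟩ := Y.ne_bot_iff_exists_ne_one.1 hY1
    exact ⟨y.1, y.2, fun h => hy (Subtype.ext h)⟩
  have hPR : ¬ D.Adj P R := N.clique (hY hyY) hy1 (D.K_le (hY hyY)) (hR y hyY)
  -- `Y` fixes all points not adjacent to `P`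
  have hall : ∀ S, P ≠ S → ¬ D.Adj P S → ∀ y ∈ Y, y • S = S := by
    intro S hS1 hS2 z hz
    obtain ⟨g, hg1, hg2⟩ := D.trN (Ne.symm hne) hPR hS1 hS2
    have h3 := hR (g⁻¹ * z * g) (by
      have := hn g⁻¹ (by rw [inv_smul_eq_iff, hg1]) z hz
      rwa [inv_inv] at this)
    rw [mul_smul, mul_smul, hg2, inv_smul_eq_iff, hg2] at h3
    exact h3
  obtain ⟨Q, S, hQ1, hQ2, hS1, hS2, hQS⟩ := D.blN P
  exact N.clique (hY hyY) hy1 (hall Q hQ1 hQ2 y hyY) (hall S hS1 hS2 y hyY) hQS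

end Cfsg.Agent.H90.R3
end

-- part: H90/R3/Trace
section
/-!
# Strongly regular graphs: integrality of the values of the two constituents

`exists_idem`: the idempotents belonging to the two eigenvalues; `int_elem`: for an automorphism the value is an integer;
`int_group`: for a finite group of automorphisms the dimension of the fixed space; `square_or`: the discriminant is a
square or we are in the half case.
-/

set_option autoImplicit false

namespace Cfsg.Agent.H90.R3.Trace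

open Finset
open Cfsg.Agent.Fischer160.Srg

variable {V : Type*} [Fintype V] [DecidableEq V]

/-- The idempotent of the eigenvalue `(lam - mu + s) / 2`, `s` of either sign. -/
theorem exists_idem [Nonempty V] {A : Matrix V V ℝ} {k lam mu s : ℝ} (h : SrgMat A k lam mu)
    (hs : s ≠ 0) (hs2 : s * s = (lam - mu) * (lam - mu) + 4 * (k - mu)) :
    ∃ M : Matrix V V ℝ, M * M = M ∧
      (∀ P : Matrix V V ℝ, P * A = A * P → P * J V = J V → J V * P = J V → P * M = M * P) ∧
      ∀ P : Matrix V V ℝ, J V * P = J V →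
        (M * P).trace = (1 / s) * ((A * P).trace - (lam - mu - s) / 2 * P.trace - (k - (lam - mu - s) / 2)) := by
  classical
  set τ : ℝ := (lam - mu - s) / 2 with hτ
  set v : ℝ := (Fintype.card V : ℝ) with hv
  have hv0 : v ≠ 0 := by rw [hv]; exact_mod_cast Fintype.card_ne_zero
  set c : ℝ := (k - τ) / v with hc
  set M : Matrix V V ℝ := (1 / s) • (A - τ • (1 : Matrix V V ℝ) - c • J V) with hM
  have hpar := h.param
  have hMM : M * M = M := by
    have e1 : (A - τ • (1 : Matrix V V ℝ) - c • J V) * (A - τ • (1 : Matrix V V ℝ) - c • J V) =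
        s • (A - τ • (1 : Matrix V V ℝ) - c • J V) := by
      have e2 : (A - τ • (1 : Matrix V V ℝ) - c • J V) * (A - τ • (1 : Matrix V V ℝ) - c • J V) =
          (k - mu + τ * τ) • (1 : Matrix V V ℝ) + (lam - mu - 2 * τ) • A +
            (mu - 2 * c * k + 2 * c * τ + c * c * v) • J V := by
        simp only [Matrix.sub_mul, Matrix.mul_sub, Matrix.smul_mul, Matrix.mul_smul, h.sq, h.mulJ,
          h.Jmul, J_mul_J, Matrix.one_mul, Matrix.mul_one, smul_smul, smul_sub]
        ext i j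
        simp only [Matrix.sub_apply, Matrix.add_apply, Matrix.smul_apply, smul_eq_mul, ← hv]
        ring
      rw [e2]
      have e3 : k - mu + τ * τ = - (s * τ) := by rw [hτ]; nlinarith
      have e4 : lam - mu - 2 * τ = s := by rw [hτ]; ring
      have e5 : mu - 2 * c * k + 2 * c * τ + c * c * v = - (s * c) := by
        have e6 : c * v = k - τ := by rw [hc]; field_simp
        have e7 : mu - 2 * c * k + 2 * c * τ + c * c * v = mu - c * (k - τ) := by
          calc mu - 2 * c * k + 2 * c * τ + c * c * v = mu - 2 * c * (k - τ) + c * (c * v) := by ring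
            _ = mu - c * (k - τ) := by rw [e6]; ring
        rw [e7]
        have e8 : (mu - c * (k - τ) + s * c) * v = 0 := by
          calc (mu - c * (k - τ) + s * c) * v = mu * v - (c * v) * (k - τ - s) := by ring
            _ = mu * v - (k - τ) * (k - τ - s) := by rw [e6]
            _ = 0 := by
                rw [hτ]
                nlinarith
        have := (mul_eq_zero.1 e8).resolve_right hv0
        linarith
      rw [e3, e4, e5]
      ext i j
      simp only [Matrix.sub_apply, Matrix.add_apply, Matrix.smul_apply, smul_eq_mul]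
      ring
    rw [hM, Matrix.smul_mul, Matrix.mul_smul, smul_smul, e1, smul_smul]
    congr 1
    field_simp
  refine ⟨M, hMM, ?_, ?_⟩
  · intro P hPA hPJ hJP
    rw [hM, Matrix.mul_smul, Matrix.smul_mul]
    congr 1
    rw [Matrix.mul_sub, Matrix.mul_sub, Matrix.sub_mul, Matrix.sub_mul, hPA, Matrix.mul_smul,
      Matrix.mul_smul, Matrix.smul_mul, Matrix.smul_mul, hPJ, hJP, Matrix.mul_one, Matrix.one_mul]
  · intro P hJP
    rw [hM, Matrix.smul_mul, Matrix.trace_smul, Matrix.sub_mul, Matrix.sub_mul, Matrix.trace_sub,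
      Matrix.trace_sub, Matrix.smul_mul, Matrix.smul_mul, Matrix.one_mul, hJP, Matrix.trace_smul,
      Matrix.trace_smul, trace_J, smul_eq_mul, smul_eq_mul, smul_eq_mul]
    congr 2
    rw [hc, ← hv]
    field_simp

/-- The trace of `M P`, `M` a real idempotent commuting with `P`, `P ^ n = 1`, is an algebraic integer. -/
theorem isIntegral_trace {M P : Matrix V V ℝ} (hM : M * M = M) (hc : P * M = M * P) {n : ℕ} (hn : 0 < n)
    (hP : P ^ n = 1) : IsIntegral ℤ (M * P).trace := by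
  have h1 := HKS.ModPSpec.isIntegral_trace_mul (V := V → ℂ)
    (Matrix.toLin' (P.map (algebraMap ℝ ℂ))) (Matrix.toLin' (M.map (algebraMap ℝ ℂ))) n hn ?_ ?_ ?_
  · rw [Module.End.mul_eq_comp, ← Matrix.toLin'_mul, Matrix.trace_toLin'_eq, ← Matrix.map_mul, hc] at h1
    have h2 : ((M * P).map (algebraMap ℝ ℂ)).trace = algebraMap ℝ ℂ (M * P).trace := by
      simp [Matrix.trace, Matrix.map_apply]
    rw [h2] at h1
    exact (isIntegral_algebraMap_iff (algebraMap ℝ ℂ).injective).1 h1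
  · rw [← Matrix.toLin'_pow]
    have h3 : (P.map (algebraMap ℝ ℂ)) ^ n = 1 := by
      have := congrArg (fun Q : Matrix V V ℝ => Q.map (algebraMap ℝ ℂ)) hP
      rw [Matrix.map_pow] at this
      rw [this]
      exact Matrix.map_one _ (map_zero _) (map_one _)
    rw [h3, Matrix.toLin'_one]
    rfl
  · rw [Module.End.mul_eq_comp, ← Matrix.toLin'_mul, ← Matrix.map_mul, hM]
  · rw [Module.End.mul_eq_comp, Module.End.mul_eq_comp, ← Matrix.toLin'_mul, ← Matrix.toLin'_mul, ← Matrix.map_mul,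
      ← Matrix.map_mul, hc]

/-- **Integrality for an automorphism.** -/
theorem int_elem [Nonempty V] {A : Matrix V V ℝ} {k lam mu s τ a p : ℤ} (h : SrgMat A k lam mu)
    (hs : s ≠ 0) (hs2 : s * s = (lam - mu) * (lam - mu) + 4 * (k - mu)) (hτ : 2 * τ = lam - mu - s)
    {P : Matrix V V ℝ} (hPA : P * A = A * P) (hPJ : P * J V = J V) (hJP : J V * P = J V) {n : ℕ} (hn : 0 < n)
    (hP : P ^ n = 1) (ha : (A * P).trace = a) (hp : P.trace = p) : s ∣ a - τ * p - (k - τ) := by
  have hs' : (s : ℝ) ≠ 0 := by exact_mod_cast hs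
  have hs2' : (s : ℝ) * s = ((lam : ℝ) - mu) * (lam - mu) + 4 * (k - mu) := by exact_mod_cast hs2
  obtain ⟨M, hM, hcom, htr⟩ := exists_idem h hs' hs2'
  have h1 := isIntegral_trace hM (hcom P hPA hPJ hJP) hn hP
  rw [htr P hJP, ha, hp] at h1
  have hτ' : ((lam : ℝ) - mu - s) / 2 = τ := by
    have : (2 : ℝ) * τ = lam - mu - s := by exact_mod_cast hτ
    linarith
  rw [hτ'] at h1
  have h2 : (1 / (s : ℝ)) * (a - τ * p - (k - τ)) = algebraMap ℚ ℝ ((a - τ * p - (k - τ)) / s) := by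
    simp only [eq_ratCast]
    push_cast
    field_simp
  rw [h2, isIntegral_algebraMap_iff (algebraMap ℚ ℝ).injective] at h1
  obtain ⟨z, hz⟩ := IsIntegrallyClosed.isIntegral_iff.1 h1
  refine ⟨z, ?_⟩
  have h3 : ((a - τ * p - (k - τ) : ℤ) : ℚ) = ((s * z : ℤ) : ℚ) := by
    have hs'' : (s : ℚ) ≠ 0 := by exact_mod_cast hs
    push_cast
    rw [eq_intCast] at hz
    rw [hz]
    field_simp
  exact_mod_cast h3

/-- **Integrality for a group of automorphisms.** -/
theorem int_group [Nonempty V] {A : Matrix V V ℝ} {k lam mu s : ℝ}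
    (h : SrgMat A k lam mu)
    (hs : s ≠ 0) (hs2 : s * s = (lam - mu) * (lam - mu) + 4 * (k - mu)) {K : Type*} [Group K]
    [Fintype K] (P : K → Matrix V V ℝ) (hP : ∀ g h : K, P (g * h) = P g * P h)
    (hPA : ∀ g, P g * A = A * P g) (hPJ : ∀ g, P g * J V = J V) (hJP : ∀ g, J V * P g = J V) :
    ∃ n : ℕ, ∑ g : K, ((A * P g).trace - ((lam - mu - s) / 2) * (P g).trace -
      (k - (lam - mu - s) / 2)) = Fintype.card K * s * n := by
  classical
  obtain ⟨M, hMM, hcom, htr⟩ := exists_idem h hs hs2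
  set m : ℝ := (Fintype.card K : ℝ) with hm
  have hm0 : m ≠ 0 := by rw [hm]; exact_mod_cast Fintype.card_ne_zero
  set E : Matrix V V ℝ := (1 / m) • ∑ g : K, P g with hE
  have hEE : E * E = E := by
    have e1 : (∑ g : K, P g) * (∑ g : K, P g) = m • ∑ g : K, P g := by
      rw [Finset.sum_mul]
      have : ∀ g : K, P g * ∑ h : K, P h = ∑ h : K, P h := by
        intro g
        rw [Finset.mul_sum]
        simp only [← hP]
        exact Fintype.sum_equiv (Equiv.mulLeft g) _ _ (fun x => rfl)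
      simp only [this, Finset.sum_const, Finset.card_univ, hm]
      rw [← Nat.cast_smul_eq_nsmul ℝ]
    rw [hE, Matrix.smul_mul, Matrix.mul_smul, smul_smul, e1, smul_smul]
    congr 1
    field_simp
  have hPM : ∀ g, P g * M = M * P g := fun g => hcom _ (hPA g) (hPJ g) (hJP g)
  have hEM : E * M = M * E := by
    have e0 : (∑ g : K, P g) * M = M * ∑ g : K, P g := by
      rw [Finset.sum_mul, Finset.mul_sum]
      exact Finset.sum_congr rfl (fun g _ => hPM g)
    rw [hE, Matrix.smul_mul, e0]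
    exact (Matrix.mul_smul M (1 / m) _).symm
  have hN : (M * E) * (M * E) = M * E := by
    calc (M * E) * (M * E) = M * (E * M) * E := by simp only [Matrix.mul_assoc]
      _ = M * (M * E) * E := by rw [hEM]
      _ = (M * M) * (E * E) := by simp only [Matrix.mul_assoc]
      _ = M * E := by rw [hMM, hEE]
  obtain ⟨n, hn⟩ := trace_idempotent _ hN
  refine ⟨n, ?_⟩
  rw [← hn, hE, Matrix.mul_smul, Matrix.trace_smul, Finset.mul_sum, Matrix.trace_sum, smul_eq_mul]
  rw [Finset.sum_congr rfl (fun g _ => htr (P g) (hJP g)), ← Finset.mul_sum]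
  set S := ∑ g : K, ((A * P g).trace - ((lam - mu - s) / 2) * (P g).trace - (k - (lam - mu - s) / 2))
  field_simp

end Cfsg.Agent.H90.R3.Trace
end

-- part: H90/R3/Graph
section
/-!
# Strongly regular graphs with a group of automorphisms: arithmetic conditions in terms of cardinalities
-/

set_option autoImplicit false

namespace Cfsg.Agent.H90.R3.Graph

open Finset
open Cfsg.Agent.Fischer160.Srg

/-- a strongly regular graph with an action of a group -/
structure Srg (G X : Type*) [Group G] [MulAction G X] (Adj : X → X → Prop) (n k lam mu : ℕ) : Prop where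
  symm : ∀ {P Q}, Adj P Q → Adj Q P
  irr : ∀ P, ¬ Adj P P
  smul : ∀ (g : G) {P Q}, Adj P Q → Adj (g • P) (g • Q)
  cX : Nat.card X = n
  cA : ∀ P, Nat.card {Q // Adj P Q} = k
  cL : ∀ {P Q}, Adj P Q → Nat.card {R // Adj P R ∧ Adj Q R} = lam
  cM : ∀ {P Q}, P ≠ Q → ¬ Adj P Q → Nat.card {R // Adj P R ∧ Adj Q R} = mu

variable {G X : Type*} [Group G] [MulAction G X] [Fintype X] [DecidableEq X] {Adj : X → X → Prop} {n k lam mu : ℕ}

open Classical in
/-- adjacency matrix -/
noncomputable def AM (Adj : X → X → Prop) : Matrix X X ℝ := Matrix.of fun i j => if Adj i j then 1 else 0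

/-- permutation matrix -/
def PM (g : G) : Matrix X X ℝ := Matrix.of fun i j => if g • j = i then 1 else 0

theorem PM_mul (g h : G) : PM (X := X) (g * h) = PM g * PM h := by
  ext i j
  simp only [PM, Matrix.mul_apply, Matrix.of_apply, mul_ite, mul_one, mul_zero]
  rw [Finset.sum_eq_single (h • j)]
  · simp [mul_smul]
  · intro b _ hb
    rw [if_neg (fun h => hb h.symm)]
  · simp

theorem PM_one : PM (X := X) (1 : G) = 1 := by
  ext i j
  simp only [PM, Matrix.of_apply, one_smul, Matrix.one_apply]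
  by_cases h : i = j
  · simp [h]
  · rw [if_neg (fun h' => h h'.symm), if_neg h]

theorem PM_pow (g : G) (n : ℕ) : PM (X := X) (g ^ n) = PM g ^ n := by
  induction n with
  | zero => rw [pow_zero, pow_zero, PM_one]
  | succ n ih => rw [pow_succ, pow_succ, PM_mul, ih]

theorem mul_PM (A : Matrix X X ℝ) (g : G) (i j : X) : (A * (PM g : Matrix X X ℝ)) i j = A i (g • j) := by
  simp only [PM, Matrix.mul_apply, Matrix.of_apply, mul_ite, mul_one, mul_zero]
  rw [Finset.sum_eq_single (g • j)]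
  · simp
  · intro b _ hb
    rw [if_neg (fun h => hb h.symm)]
  · simp

theorem PM_mul' (A : Matrix X X ℝ) (g : G) (i j : X) : ((PM g : Matrix X X ℝ) * A) i j = A (g⁻¹ • i) j := by
  simp only [PM, Matrix.mul_apply, Matrix.of_apply, ite_mul, one_mul, zero_mul]
  rw [Finset.sum_eq_single (g⁻¹ • i)]
  · simp
  · intro b _ hb
    rw [if_neg (fun h => hb (by rw [← h, inv_smul_smul]))]
  · simp

theorem J_PM (g : G) : J X * PM g = J X := by
  ext i j
  rw [mul_PM]
  rfl

theorem PM_J (g : G) : PM g * J X = J X := by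
  ext i j
  rw [PM_mul']
  rfl

theorem PM_AM (h : Srg G X Adj n k lam mu) (g : G) : PM g * AM Adj = AM Adj * PM g := by
  ext i j
  rw [mul_PM, PM_mul']
  simp only [AM, Matrix.of_apply]
  congr 1
  rw [eq_iff_iff]
  constructor
  · intro h1
    have := h.smul g h1
    rwa [smul_inv_smul] at this
  · intro h1
    have := h.smul g⁻¹ h1
    rwa [inv_smul_smul] at this

theorem trace_PM (g : G) : (PM (X := X) g).trace = (Nat.card {P : X // g • P = P} : ℝ) := by
  classical
  simp only [Matrix.trace, Matrix.diag, PM, Matrix.of_apply]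
  rw [Finset.sum_boole, Nat.card_eq_fintype_card, Fintype.card_subtype]

theorem trace_AM_PM (g : G) : (AM Adj * (PM g : Matrix X X ℝ)).trace = (Nat.card {P : X // Adj P (g • P)} : ℝ) := by
  classical
  simp only [Matrix.trace, Matrix.diag_apply, mul_PM]
  simp only [AM, Matrix.of_apply]
  rw [Finset.sum_boole, Nat.card_eq_fintype_card, Fintype.card_subtype]

theorem srgMat (h : Srg G X Adj n k lam mu) : SrgMat (AM Adj) (k : ℝ) lam mu := by
  classical
  have hA : ∀ P, (∑ Q, if Adj P Q then (1 : ℝ) else 0) = k := by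
    intro P
    rw [Finset.sum_boole, ← h.cA P, Nat.card_eq_fintype_card, Fintype.card_subtype]
  refine ⟨?_, ?_, ?_⟩
  · ext i j
    have h1 : (AM Adj * AM Adj) i j = (Nat.card {R // Adj i R ∧ Adj j R} : ℝ) := by
      simp only [Matrix.mul_apply, AM, Matrix.of_apply]
      rw [Nat.card_eq_fintype_card, Fintype.card_subtype, ← Finset.sum_boole]
      refine Finset.sum_congr rfl fun R _ => ?_
      by_cases h1 : Adj i R <;> by_cases h2 : Adj R j
      · rw [if_pos h1, if_pos h2, if_pos ⟨h1, h.symm h2⟩, one_mul]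
      · rw [if_pos h1, if_neg h2, if_neg (fun h3 => h2 (h.symm h3.2)), mul_zero]
      · rw [if_neg h1, if_neg (fun h3 : Adj i R ∧ Adj j R => h1 h3.1), zero_mul]
      · rw [if_neg h1, if_neg (fun h3 : Adj i R ∧ Adj j R => h1 h3.1), zero_mul]
    rw [h1]
    simp only [Matrix.add_apply, Matrix.smul_apply, smul_eq_mul, J, AM, Matrix.of_apply, mul_one]
    by_cases hij : i = j
    · subst hij
      rw [Matrix.one_apply_eq, if_neg (h.irr i)]
      have h2 : Nat.card {R // Adj i R ∧ Adj i R} = k := by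
        rw [← h.cA i]
        exact Nat.card_congr (Equiv.subtypeEquivRight fun R => and_self_iff)
      rw [h2]
      ring
    · rw [Matrix.one_apply_ne hij]
      by_cases ha : Adj i j
      · rw [if_pos ha, h.cL ha]
        ring
      · rw [if_neg ha, h.cM hij ha]
        ring
  · ext i j
    simp only [Matrix.mul_apply, AM, J, Matrix.of_apply, Matrix.smul_apply, smul_eq_mul, mul_one]
    exact hA i
  · ext i j
    simp only [Matrix.mul_apply, AM, J, Matrix.of_apply, Matrix.smul_apply, smul_eq_mul, mul_one, one_mul]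
    rw [← hA j]
    refine Finset.sum_congr rfl fun R _ => ?_
    by_cases h1 : Adj R j
    · rw [if_pos h1, if_pos (h.symm h1)]
    · rw [if_neg h1, if_neg (fun h2 => h1 (h.symm h2))]

/-- the discriminant is a square, or the half case; in the first case the multiplicity is an integer -/
theorem square_or [Nonempty X] (h : Srg G X Adj n k lam mu)
    (hpos : 0 < ((lam : ℤ) - mu) * (lam - mu) + 4 * (k - mu)) :
    ((n : ℤ) - 1) * (lam - mu) + 2 * k = 0 ∨
      ∃ s : ℤ, 0 < s ∧ s * s = ((lam : ℤ) - mu) * (lam - mu) + 4 * (k - mu) ∧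
        ∃ a : ℕ, ((n : ℤ) - 1) * (lam - mu) + 2 * k = s * (((n : ℤ) - 1) - 2 * a) := by
  set disc : ℤ := ((lam : ℤ) - mu) * (lam - mu) + 4 * (k - mu) with hdisc
  set s : ℝ := Real.sqrt disc with hs
  have hdR : (0 : ℝ) < disc := by exact_mod_cast hpos
  have hs0 : 0 < s := Real.sqrt_pos.2 hdR
  have hss : s * s = disc := Real.mul_self_sqrt hdR.le
  have hs2 : s * s = ((lam : ℝ) - mu) * (lam - mu) + 4 * (k - mu) := by
    rw [hss, hdisc]
    push_cast
    ring
  obtain ⟨M, hM, -, htr⟩ := Trace.exists_idem (srgMat h) hs0.ne' hs2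
  obtain ⟨a, ha⟩ := trace_idempotent M hM
  have h1 := htr 1 (by rw [Matrix.mul_one])
  rw [Matrix.mul_one, Matrix.mul_one, ha] at h1
  have h2 : (AM Adj : Matrix X X ℝ).trace = 0 := by
    have h3 := trace_AM_PM (G := G) (Adj := Adj) (1 : G)
    rw [PM_one, Matrix.mul_one] at h3
    rw [h3]
    simp only [one_smul]
    have : IsEmpty {P // Adj P P} := ⟨fun P => h.irr _ P.2⟩
    rw [Nat.card_of_isEmpty, Nat.cast_zero]
  have h3 : (1 : Matrix X X ℝ).trace = n := by
    rw [Matrix.trace_one, ← h.cX, Nat.card_eq_fintype_card]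
  rw [h2, h3] at h1
  have h4 : ((n : ℝ) - 1) * (lam - mu) + 2 * k = s * (((n : ℝ) - 1) - 2 * a) := by
    field_simp at h1
    nlinarith
  by_cases h5 : (n : ℤ) - 1 - 2 * a = 0
  · left
    have h6 : (n : ℝ) - 1 - 2 * a = 0 := by exact_mod_cast h5
    rw [h6, mul_zero] at h4
    exact_mod_cast h4
  · right
    have h6 : ((n : ℝ) - 1 - 2 * a) ≠ 0 := by exact_mod_cast h5
    -- `s` is rational, hence an integer
    have h7 : s = ((((n : ℤ) - 1) * (lam - mu) + 2 * k : ℤ) : ℝ) / (((n : ℤ) - 1 - 2 * a : ℤ) : ℝ) := by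
      push_cast
      rw [h4]
      field_simp
    have h8 : ∃ q : ℚ, (q : ℝ) = s := ⟨((((n : ℤ) - 1) * (lam - mu) + 2 * k : ℤ) : ℚ) / (((n : ℤ) - 1 - 2 * a : ℤ) : ℚ), by
      rw [h7]; push_cast; rfl⟩
    obtain ⟨q, hq⟩ := h8
    have h9 : q * q = (disc : ℚ) := by
      have : ((q * q : ℚ) : ℝ) = ((disc : ℚ) : ℝ) := by
        push_cast
        rw [hq, hss]
      exact_mod_cast this
    have h10 : IsIntegral ℤ q := by
      refine ⟨Polynomial.X ^ 2 - Polynomial.C disc, Polynomial.monic_X_pow_sub_C _ two_ne_zero, ?_⟩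
      simp only [Polynomial.eval₂_sub, Polynomial.eval₂_X_pow, Polynomial.eval₂_C]
      rw [pow_two, h9]
      simp
    obtain ⟨z, hz⟩ := IsIntegrallyClosed.isIntegral_iff.1 h10
    rw [eq_intCast] at hz
    have hsz : s = (z : ℝ) := by rw [← hq, ← hz]; push_cast; rfl
    refine ⟨z, ?_, ?_, a, ?_⟩
    · rw [hsz] at hs0
      exact_mod_cast hs0
    · rw [hsz] at hss
      exact_mod_cast hss
    · rw [hsz] at h4
      exact_mod_cast h4

/-- the value of the constituent of an element -/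
theorem elem [Nonempty X] [Finite G] (h : Srg G X Adj n k lam mu) {s τ : ℤ} (hs : s ≠ 0)
    (hs2 : s * s = ((lam : ℤ) - mu) * (lam - mu) + 4 * (k - mu)) (hτ : 2 * τ = (lam : ℤ) - mu - s) (g : G) :
    s ∣ (Nat.card {P : X // Adj P (g • P)} : ℤ) - τ * (Nat.card {P : X // g • P = P}) - (k - τ) := by
  refine Trace.int_elem (k := k) (lam := lam) (mu := mu) (A := AM Adj) (P := PM g) (n := orderOf g)
    (by simpa using srgMat h) hs hs2 hτ (PM_AM h g) (PM_J g) (J_PM g) (orderOf_pos g)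
    (by rw [← PM_pow, pow_orderOf_eq_one, PM_one]) (by rw [trace_AM_PM]; push_cast; rfl)
    (by rw [trace_PM]; push_cast; rfl)

/-- the multiplicity of the trivial character of a subgroup -/
theorem group [Nonempty X] (h : Srg G X Adj n k lam mu) {s τ : ℤ} (hs : s ≠ 0)
    (hs2 : s * s = ((lam : ℤ) - mu) * (lam - mu) + 4 * (k - mu)) (hτ : 2 * τ = (lam : ℤ) - mu - s)
    (K : Subgroup G) [Fintype K] :
    ∃ a : ℕ, ∑ g : K, ((Nat.card {P : X // Adj P (g • P)} : ℤ) - τ * (Nat.card {P : X // g • P = P}) - (k - τ)) =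
      Fintype.card K * s * a := by
  have hs' : (s : ℝ) ≠ 0 := by exact_mod_cast hs
  have hs2' : (s : ℝ) * s = ((lam : ℝ) - mu) * (lam - mu) + 4 * (k - mu) := by exact_mod_cast hs2
  obtain ⟨a, ha⟩ := Trace.int_group (srgMat h) hs' hs2' (K := K) (fun g => PM (g : G))
    (fun g g' => by rw [Subgroup.coe_mul, PM_mul]) (fun g => PM_AM h _) (fun g => PM_J _) (fun g => J_PM _)
  refine ⟨a, ?_⟩
  have hτ' : ((lam : ℝ) - mu - s) / 2 = τ := by
    have : (2 : ℝ) * τ = lam - mu - s := by exact_mod_cast hτ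
    linarith
  simp only [hτ', trace_PM, trace_AM_PM] at ha
  have : ((∑ g : K, ((Nat.card {P : X // Adj P (g • P)} : ℤ) - τ * (Nat.card {P : X // g • P = P}) - (k - τ)) : ℤ) : ℝ)
      = ((Fintype.card K * s * a : ℤ) : ℝ) := by
    push_cast
    exact ha
  exact_mod_cast this

end Cfsg.Agent.H90.R3.Graph
end

-- part: H90/R3/Lam
section
/-!
# Rank three groups with a Frobenius suborbit: the parameters `lam`, `mu`
-/

set_option autoImplicit false

namespace Cfsg.Agent.H90.R3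

open Subgroup

theorem card_split {X : Type*} [Finite X] (p q : X → Prop) :
    Nat.card {x // p x} = Nat.card {x // p x ∧ q x} + Nat.card {x // p x ∧ ¬ q x} := by
  classical
  rw [← Nat.card_sum]
  refine Nat.card_congr ⟨fun x => if h : q x.1 then Sum.inl ⟨x.1, x.2, h⟩ else Sum.inr ⟨x.1, x.2, h⟩,
    fun y => y.elim (fun x => ⟨x.1, x.2.1⟩) (fun x => ⟨x.1, x.2.1⟩), ?_, ?_⟩
  · rintro ⟨x, hx⟩
    by_cases h : q x <;> simp [h]
  · rintro (⟨x, hx1, hx2⟩ | ⟨x, hx1, hx2⟩) <;> simp [hx2]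

theorem card_erase {X : Type*} [Finite X] (p : X → Prop) {a : X} (ha : p a) :
    Nat.card {x // p x} = Nat.card {x // p x ∧ a ≠ x} + 1 := by
  rw [card_split p (fun x => a ≠ x)]
  congr 1
  rw [Nat.card_eq_one_iff_unique]
  refine ⟨⟨?_⟩, ⟨⟨a, ha, fun h => h rfl⟩⟩⟩
  rintro ⟨x, hx1, hx2⟩ ⟨y, hy1, hy2⟩
  rw [not_not] at hx2 hy2
  exact Subtype.ext (hx2.symm.trans hy2)

theorem free_dvd {G X : Type*} [Group G] [Finite G] [MulAction G X] [Finite X] (S : Subgroup G) (p : X → Prop)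
    (hp : ∀ g ∈ S, ∀ Q, p Q → p (g • Q)) (hf : ∀ g ∈ S, ∀ Q, p Q → g • Q = Q → g = 1) :
    Nat.card S ∣ Nat.card {Q // p Q} := by
  let Ω : SubMulAction S X := ⟨{Q | p Q}, fun g Q hQ => hp g.1 g.2 Q hQ⟩
  have h1 : ∀ b : Ω, MulAction.stabilizer S b = ⊥ := by
    rintro ⟨b, hb⟩
    rw [eq_bot_iff]
    rintro ⟨g, hg⟩ h
    exact Subtype.ext (hf g hg b hb (congrArg Subtype.val h))
  have e : Ω ≃ _ := MulAction.selfEquivOrbitsQuotientProd h1
  have h2 : Nat.card {Q // p Q} = Nat.card Ω := rfl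
  rw [h2, Nat.card_congr e, Nat.card_prod]
  exact dvd_mul_left _ _

variable {G X : Type*} [Group G] [MulAction G X] {D : Dat G X} {n k l f d : ℕ}

theorem Num.exists_srg [Finite G] [Finite X] (N : Num D n k l f d) :
    ∃ lam mu s : ℕ, Graph.Srg G X D.Adj n k lam mu ∧ k = 1 + lam + f * s ∧ mu = d * s ∧ 1 ≤ s ∧ f ∣ lam := by
  classical
  have hne : Nonempty X := by
    have h1 := N.cX
    have h2 := N.sum
    exact (Nat.card_pos_iff.1 (by omega)).1
  obtain ⟨A⟩ := hne
  obtain ⟨B, hB⟩ := D.exA A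
  obtain ⟨C, hC1, hC2⟩ := D.exN A
  have hinv : ∀ (g : G) P Q, Nat.card {R // D.Adj (g • P) R ∧ D.Adj (g • Q) R} = Nat.card {R // D.Adj P R ∧ D.Adj Q R} := by
    intro g P Q
    refine (Nat.card_congr ((MulAction.toPerm g).subtypeEquiv ?_)).symm
    intro R
    rw [MulAction.toPerm_apply, D.adj_smul_iff, D.adj_smul_iff]
  have hlam : ∀ {P Q}, D.Adj P Q → Nat.card {R // D.Adj P R ∧ D.Adj Q R} = Nat.card {R // D.Adj A R ∧ D.Adj B R} := by
    intro P Q hPQ
    obtain ⟨g, rfl, rfl⟩ := D.trA hB hPQ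
    exact hinv g A B
  have hmu : ∀ {P Q}, P ≠ Q → ¬ D.Adj P Q → Nat.card {R // D.Adj P R ∧ D.Adj Q R} = Nat.card {R // D.Adj A R ∧ D.Adj C R} := by
    intro P Q h1 h2
    obtain ⟨g, rfl, rfl⟩ := D.trN hC1 hC2 h1 h2
    exact hinv g A C
  have hf1 : Nat.card ↥(MulAction.stabilizer G A ⊓ MulAction.stabilizer G B) = f := by
    rw [← N.sA hB]
    rfl
  have hfd : f ∣ Nat.card {R // D.Adj A R ∧ D.Adj B R} := by
    rw [← hf1]
    apply free_dvd
    · rintro g ⟨hg1, hg2⟩ R ⟨hR1, hR2⟩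
      have h1 := D.smul g hR1
      have h2 := D.smul g hR2
      rw [MulAction.mem_stabilizer_iff.1 hg1] at h1
      rw [MulAction.mem_stabilizer_iff.1 hg2] at h2
      exact ⟨h1, h2⟩
    · rintro g ⟨hg1, hg2⟩ R ⟨hR1, hR2⟩ hgR
      exact D.free hg1 hB hg2 hR1 hgR (fun h => D.irr _ (by rw [← h] at hR2; exact hR2))
  -- the neighbours of `Q` relative to a neighbour `P`
  have hcount : ∀ {P Q}, D.Adj P Q → k = 1 + Nat.card {R // D.Adj A R ∧ D.Adj B R} +
      Nat.card {R // D.Adj Q R ∧ (P ≠ R ∧ ¬ D.Adj P R)} := by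
    intro P Q hPQ
    rw [← N.cA Q, card_split (fun R => D.Adj Q R) (fun R => D.Adj P R),
      card_erase (fun R => D.Adj Q R ∧ ¬ D.Adj P R) (a := P) ⟨D.symm hPQ, D.irr P⟩,
      ← hlam (D.symm hPQ)]
    have e : Nat.card {x // (D.Adj Q x ∧ ¬ D.Adj P x) ∧ P ≠ x} = Nat.card {R // D.Adj Q R ∧ (P ≠ R ∧ ¬ D.Adj P R)} :=
      Nat.card_congr (Equiv.subtypeEquivRight fun R => by tauto)
    rw [e]
    ring
  set lam := Nat.card {R // D.Adj A R ∧ D.Adj B R} with hl
  set c := Nat.card {R // D.Adj B R ∧ (A ≠ R ∧ ¬ D.Adj A R)} with hc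
  have hk := hcount hB
  have hfc : f ∣ c := by
    have h1 : c = (k - 1) - lam := by omega
    rw [h1]
    exact Nat.dvd_sub N.dvd hfd
  obtain ⟨s, hs⟩ := hfc
  have hs1 : 1 ≤ s := by
    by_contra hlt
    have h0 : s = 0 := by omega
    rw [h0, mul_zero] at hs
    obtain ⟨Q, R, hQ, hR, hne, hna⟩ := D.blA A
    have h1 := hcount hQ
    have h2 : Nat.card {S // D.Adj Q S ∧ (A ≠ S ∧ ¬ D.Adj A S)} = 0 := by omega
    -- all neighbours of a neighbour `Q'` of `P'` are adjacent or equal to `P'`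
    have h3 : ∀ {P' Q' R'}, D.Adj P' Q' → D.Adj Q' R' → P' ≠ R' → D.Adj P' R' := by
      intro P' Q' R' h4 h5 h6
      by_contra h7
      have h8 := hcount h4
      have h9 : Nat.card {S // D.Adj Q' S ∧ (P' ≠ S ∧ ¬ D.Adj P' S)} = 0 := by omega
      rw [Nat.card_eq_zero] at h9
      rcases h9 with h9 | h9
      · exact h9.elim ⟨R', h5, h6, h7⟩
      · exact not_finite {S // D.Adj Q' S ∧ (P' ≠ S ∧ ¬ D.Adj P' S)}
    exact hna (h3 (D.symm hQ) hR hne)
  have hmul : k * c = l * Nat.card {R // D.Adj A R ∧ D.Adj C R} := by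
    have h1 := dc (α := {Q // D.Adj A Q}) (β := {R // A ≠ R ∧ ¬ D.Adj A R}) (fun Q R => D.Adj Q.1 R.1) (x := c)
      (y := Nat.card {R // D.Adj A R ∧ D.Adj C R}) ?_ ?_
    · rwa [N.cA, N.cN] at h1
    · rintro ⟨Q, hQ⟩
      have h2 := hcount hQ
      have h3 : c = Nat.card {R // D.Adj Q R ∧ (A ≠ R ∧ ¬ D.Adj A R)} := by omega
      rw [h3]
      exact Nat.card_congr ⟨fun R => ⟨R.1.1, R.2, R.1.2⟩, fun R => ⟨⟨R.1, R.2.2⟩, R.2.1⟩, fun R => rfl, fun R => rfl⟩
    · rintro ⟨R, hR1, hR2⟩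
      rw [← hmu hR1 hR2]
      exact Nat.card_congr ⟨fun Q => ⟨Q.1.1, Q.1.2, D.symm Q.2⟩, fun Q => ⟨⟨Q.1, Q.2.1⟩, D.symm Q.2.2⟩, fun R => rfl,
        fun R => rfl⟩
  refine ⟨lam, Nat.card {R // D.Adj A R ∧ D.Adj C R}, s, ⟨D.symm, D.irr, D.smul, N.cX, N.cA, hlam, hmu⟩, ?_, ?_, hs1, hfd⟩
  · rw [← hs]
    exact hk
  · have h1 := N.cS'
    have hl1 := N.l1
    rw [hs] at hmul
    have h2 : l * (d * s) = l * Nat.card {R // D.Adj A R ∧ D.Adj C R} := by
      rw [← hmul, ← mul_assoc, ← h1]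
      ring
    exact (Nat.eq_of_mul_eq_mul_left (by omega) h2).symm

end Cfsg.Agent.H90.R3
end

-- part: H90/R3/Even
section
/-!
# Rank three groups with a Frobenius suborbit: involutions when the complement has even order
-/

set_option autoImplicit false

namespace Cfsg.Agent.H90.R3

open Subgroup

variable {G X : Type*} [Group G] [MulAction G X] {D : Dat G X} {n k l f d : ℕ}

/-- an involution fixing the point `P` -/
def Inv (G : Type*) {X : Type*} [Group G] [MulAction G X] (P : X) (t : G) : Prop := t ≠ 1 ∧ t * t = 1 ∧ t • P = P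

theorem Inv.inv_eq {P : X} {t : G} (h : Inv G P t) : t⁻¹ = t := inv_eq_of_mul_eq_one_left h.2.1

theorem Inv.conj {P : X} {t : G} (h : Inv G P t) (g : G) : Inv G (g • P) (g * t * g⁻¹) := by
  refine ⟨?_, ?_, ?_⟩
  · intro h1
    apply h.1
    have : t = g⁻¹ * (g * t * g⁻¹) * g := by group
    rw [this, h1]
    group
  · calc g * t * g⁻¹ * (g * t * g⁻¹) = g * (t * t) * g⁻¹ := by group
      _ = 1 := by rw [h.2.1]; group
  · rw [mul_smul, mul_smul, inv_smul_smul, h.2.2]

theorem Num.exists_ne [Finite G] (N : Num D n k l f d) (P : X) : ∃ x ∈ D.K P, x ≠ 1 := by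
  have h1 := N.cK P
  have h2 := N.k2
  have : Nontrivial (D.K P) := Finite.one_lt_card_iff_nontrivial.1 (by omega)
  obtain ⟨x, hx⟩ := _root_.exists_ne (1 : D.K P)
  exact ⟨x.1, x.2, fun h => hx (Subtype.ext h)⟩

section

variable [Finite G] (N : Num D n k l f d) (hf : Even f)
include N hf

theorem odd_k : Odd k := by
  obtain ⟨c, hc⟩ := N.dvd
  obtain ⟨e, he⟩ := hf
  have := N.k2
  rw [he] at hc
  refine ⟨e * c, ?_⟩
  have h1 : k = (e + e) * c + 1 := by omega
  rw [h1]
  ring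

theorem exists_inv (P : X) : ∃ t : G, Inv G P t := by
  obtain ⟨Q, hQ⟩ := D.exA P
  have h1 : Nat.card ↥(MulAction.stabilizer G P ⊓ MulAction.stabilizer G Q) = f := by
    rw [← N.sA hQ]
    rfl
  obtain ⟨⟨t, ht1, ht2⟩, ht⟩ := exists_prime_orderOf_dvd_card' (G := ↥(MulAction.stabilizer G P ⊓ MulAction.stabilizer G Q)) 2
    (by rw [h1]; exact hf.two_dvd)
  refine ⟨t, ?_, ?_, ht1⟩
  · rintro rfl
    have h2 : (⟨1, ht1, ht2⟩ : ↥(MulAction.stabilizer G P ⊓ MulAction.stabilizer G Q)) = 1 := rfl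
    rw [h2, orderOf_one] at ht
    omega
  · have h3 : (⟨t, ht1, ht2⟩ : ↥(MulAction.stabilizer G P ⊓ MulAction.stabilizer G Q)) ^ 2 = 1 := by
      rw [← ht, pow_orderOf_eq_one]
    rw [← pow_two]
    exact congrArg Subtype.val h3

theorem inv_not_mem {P : X} {t : G} (ht : Inv G P t) {R : X} : t ∉ D.K R := by
  intro h
  apply ht.1
  have h1 := N.pow_k h
  obtain ⟨e, he⟩ := odd_k N hf
  rw [he, pow_add, pow_mul, pow_two, ht.2.1, one_pow, one_mul, pow_one] at h1
  exact h1

/-- an involution of the point stabilizer inverts the kernel -/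
theorem inverts {P : X} {t : G} (ht : Inv G P t) {x : G} (hx : x ∈ D.K P) : t * x * t = x⁻¹ := by
  have hmem : ∀ y ∈ D.K P, t * y * t ∈ D.K P := by
    intro y hy
    have := D.conj_mem' hy ht.2.2
    rwa [ht.inv_eq] at this
  let φ : D.K P →* D.K P :=
    { toFun := fun y => ⟨t * y.1 * t, hmem _ y.2⟩
      map_one' := Subtype.ext (by simp [ht.2.1])
      map_mul' := by
        intro a b
        apply Subtype.ext
        show t * (a.1 * b.1) * t = t * a.1 * t * (t * b.1 * t)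
        calc t * (a.1 * b.1) * t = t * a.1 * (1 * b.1) * t := by group
          _ = t * a.1 * (t * t * b.1) * t := by rw [ht.2.1]
          _ = _ := by group }
  have h1 : MonoidHom.FixedPointFree φ := by
    intro y hy
    by_contra hne
    have hy1 : y.1 ≠ 1 := fun h => hne (Subtype.ext h)
    have hy2 : t * y.1 * t = y.1 := congrArg Subtype.val hy
    apply inv_not_mem N hf ht (R := P)
    refine D.comm_mem y.2 hy1 ht.2.2 ?_
    calc t * y.1 = t * y.1 * (t * t) := by rw [ht.2.1, mul_one]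
      _ = t * y.1 * t * t := by group
      _ = y.1 * t := by rw [hy2]
  have h2 : Function.Involutive φ := by
    intro y
    apply Subtype.ext
    show t * (t * y.1 * t) * t = y.1
    calc t * (t * y.1 * t) * t = (t * t) * y.1 * (t * t) := by group
      _ = y.1 := by rw [ht.2.1]; group
  have h3 := congrFun (h1.coe_eq_inv_of_involutive h2) ⟨x, hx⟩
  exact congrArg Subtype.val h3

theorem comm_K {P : X} {x y : G} (hx : x ∈ D.K P) (hy : y ∈ D.K P) : x * y = y * x := by
  obtain ⟨t, ht⟩ := exists_inv N hf P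
  have h1 := inverts N hf ht hx
  have h2 := inverts N hf ht hy
  have h3 := inverts N hf ht ((D.K P).mul_mem hx hy)
  have h4 : t * (x * y) * t = (t * x * t) * (t * y * t) := by
    calc t * (x * y) * t = t * x * (1 * y) * t := by group
      _ = t * x * (t * t * y) * t := by rw [ht.2.1]
      _ = _ := by group
  rw [h3, h1, h2] at h4
  have h5 := congrArg (fun z => z⁻¹) h4
  simpa using h5

/-- the product of two involutions of the point stabilizer lies in the kernel -/
theorem mul_mem_K {P : X} {t t' : G} (ht : Inv G P t) (ht' : Inv G P t') : t * t' ∈ D.K P := by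
  obtain ⟨x, hx, hx1⟩ := N.exists_ne P
  have hx' : x⁻¹ ∈ D.K P := inv_mem hx
  refine D.comm_mem hx hx1 (by rw [mul_smul, ht'.2.2, ht.2.2]) ?_
  have h1 := inverts N hf ht' hx
  have h2 := inverts N hf ht hx'
  have h3 : t' * x = x⁻¹ * t' := by
    calc t' * x = t' * x * (t' * t') := by rw [ht'.2.1, mul_one]
      _ = t' * x * t' * t' := by group
      _ = x⁻¹ * t' := by rw [h1]
  have h4 : t * x⁻¹ = x * t := by
    calc t * x⁻¹ = t * x⁻¹ * (t * t) := by rw [ht.2.1, mul_one]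
      _ = t * x⁻¹ * t * t := by group
      _ = x * t := by rw [h2, inv_inv]
  calc t * t' * x = t * (t' * x) := by group
    _ = t * x⁻¹ * t' := by rw [h3]; group
    _ = x * (t * t') := by rw [h4]; group

theorem inv_mul {P : X} {t x : G} (ht : Inv G P t) (hx : x ∈ D.K P) : Inv G P (t * x) := by
  refine ⟨?_, ?_, ?_⟩
  · intro h
    apply inv_not_mem N hf ht (R := P)
    have : t = x⁻¹ := eq_inv_of_mul_eq_one_left h
    rw [this]
    exact inv_mem hx
  · calc t * x * (t * x) = (t * x * t) * x := by group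
      _ = 1 := by rw [inverts N hf ht hx]; group
  · rw [mul_smul, D.K_le hx, ht.2.2]

/-- conjugacy of the involutions of a point stabilizer -/
theorem conj_in {P : X} {t t' : G} (ht : Inv G P t) (ht' : Inv G P t') : ∃ x ∈ D.K P, x * t * x⁻¹ = t' := by
  have h1 := mul_mem_K N hf ht ht'
  obtain ⟨e, he⟩ := odd_k N hf
  set y := (t * t') ^ (e + 1) with hy
  have hyK : y ∈ D.K P := pow_mem h1 _
  have hyy : y * y = t * t' := by
    have h2 := N.pow_k h1
    rw [hy, ← pow_add]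
    have : e + 1 + (e + 1) = k + 1 := by omega
    rw [this, pow_succ, h2, one_mul]
  refine ⟨y⁻¹, inv_mem hyK, ?_⟩
  have h3 := inverts N hf ht (inv_mem hyK)
  rw [inv_inv] at h3
  calc y⁻¹ * t * y⁻¹⁻¹ = (t * t) * y⁻¹ * t * y := by rw [ht.2.1]; group
    _ = t * (t * y⁻¹ * t) * y := by group
    _ = t * (y * y) := by rw [h3]; group
    _ = (t * t) * t' := by rw [hyy]; group
    _ = t' := by rw [ht.2.1, one_mul]

theorem card_inv (P : X) : Nat.card {t : G // Inv G P t} = k := by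
  obtain ⟨t, ht⟩ := exists_inv N hf P
  rw [← N.cK P]
  refine Nat.card_congr ⟨fun s => ⟨t * s.1, mul_mem_K N hf ht s.2⟩, fun x => ⟨t * x.1, inv_mul N hf ht x.2⟩, ?_, ?_⟩
  · intro s
    apply Subtype.ext
    show t * (t * s.1) = s.1
    rw [← mul_assoc, ht.2.1, one_mul]
  · intro s
    apply Subtype.ext
    show t * (t * s.1) = s.1
    rw [← mul_assoc, ht.2.1, one_mul]

/-- an involution fixing `P` fixes exactly one neighbour of `P` -/
theorem unique_nbr {P : X} {t : G} (ht : Inv G P t) : ∃ Q, D.Adj P Q ∧ t • Q = Q ∧ ∀ R, D.Adj P R → t • R = R → R = Q := by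
  have h1 := inv_not_mem N hf ht (R := P)
  rw [D.mem_K] at h1
  push Not at h1
  obtain ⟨-, Q, hQ1, hQ2⟩ := h1 ht.2.2
  refine ⟨Q, hQ1, hQ2, ?_⟩
  intro R hR1 hR2
  by_contra hne
  exact ht.1 (D.free ht.2.2 hR1 hR2 hQ1 hQ2 hne)

/-- all involutions with fixed points are conjugate -/
theorem conj_all {P Q : X} {t t' : G} (ht : Inv G P t) (ht' : Inv G Q t') : ∃ g : G, g * t * g⁻¹ = t' := by
  obtain ⟨u, hu⟩ := D.tr P Q
  have h1 := ht.conj u
  rw [hu] at h1
  obtain ⟨x, -, hx⟩ := conj_in N hf h1 ht'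
  refine ⟨x * u, ?_⟩
  rw [← hx]
  group

/-- the number of fixed points -/
theorem exists_m [Finite X] : ∃ m : ℕ, ∀ {P : X} {t : G}, Inv G P t → Nat.card {Q : X // t • Q = Q} = m := by
  have hne : Nonempty X := by
    have h1 := N.cX
    have h2 := N.sum
    exact (Nat.card_pos_iff.1 (by omega)).1
  obtain ⟨P₀⟩ := hne
  obtain ⟨t₀, ht₀⟩ := exists_inv N hf P₀
  refine ⟨Nat.card {Q : X // t₀ • Q = Q}, ?_⟩
  intro P t ht
  obtain ⟨g, hg⟩ := conj_all N hf ht₀ ht
  refine (Nat.card_congr ((MulAction.toPerm g).subtypeEquiv ?_)).symm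
  intro Q
  rw [MulAction.toPerm_apply, ← hg, mul_smul, mul_smul, inv_smul_smul, (MulAction.injective g).eq_iff]

/-- the number of involutions with fixed points -/
theorem card_T [Finite X] {m : ℕ} (hm : ∀ {P : X} {t : G}, Inv G P t → Nat.card {Q : X // t • Q = Q} = m) :
    Nat.card {t : G // ∃ P : X, Inv G P t} * m = n * k := by
  have h := dc (α := {t : G // ∃ P : X, Inv G P t}) (β := X) (fun t Q => t.1 • Q = Q) (x := m) (y := k) ?_ ?_
  · rw [h, N.cX]
  · rintro ⟨t, P, ht⟩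
    exact hm ht
  · intro Q
    rw [← card_inv N hf Q]
    exact Nat.card_congr ⟨fun t => ⟨t.1.1, by obtain ⟨⟨t, P, ht⟩, h⟩ := t; exact ⟨ht.1, ht.2.1, h⟩⟩,
      fun t => ⟨⟨t.1, Q, t.2⟩, t.2.2.2⟩, fun t => rfl, fun t => rfl⟩

end

end Cfsg.Agent.H90.R3
end

-- part: H90/R3/Line
section
/-!
# Rank three groups with a Frobenius suborbit: lines
-/

set_option autoImplicit false

namespace Cfsg.Agent.H90.R3

open Subgroup

variable {G X : Type*} [Group G] [MulAction G X] {D : Dat G X} {n k l f d : ℕ}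

/-- the common part of two kernels -/
def Dat.L (D : Dat G X) (P Q : X) : Subgroup G := D.K P ⊓ D.K Q

theorem Dat.conj_L {P Q : X} {x : G} (g : G) : g * x * g⁻¹ ∈ D.L (g • P) (g • Q) ↔ x ∈ D.L P Q := by
  unfold Dat.L
  rw [mem_inf, mem_inf, D.conj_mem_iff, D.conj_mem_iff]

theorem Dat.L_comm (D : Dat G X) (P Q : X) : D.L P Q = D.L Q P := inf_comm _ _

/-- `g` normalizes `H` -/
def Nz (H : Subgroup G) (g : G) : Prop := ∀ x : G, g * x * g⁻¹ ∈ H ↔ x ∈ H

theorem Nz.inv {H : Subgroup G} {g : G} (h : Nz H g) : Nz H g⁻¹ := by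
  intro x
  rw [← h (g⁻¹ * x * g⁻¹⁻¹)]
  have : g * (g⁻¹ * x * g⁻¹⁻¹) * g⁻¹ = x := by group
  rw [this]

theorem Nz.mul {H : Subgroup G} {g g' : G} (h : Nz H g) (h' : Nz H g') : Nz H (g * g') := by
  intro x
  rw [← h' x, ← h (g' * x * g'⁻¹)]
  have : g * g' * x * (g * g')⁻¹ = g * (g' * x * g'⁻¹) * g⁻¹ := by group
  rw [this]

/-- `R` is fixed by `H` -/
def Fx (H : Subgroup G) (R : X) : Prop := ∀ x ∈ H, x • R = R

theorem Nz.fx {H : Subgroup G} {g : G} (h : Nz H g) {R : X} (hR : Fx H R) : Fx H (g • R) := by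
  intro x hx
  have h1 : g⁻¹ * x * g ∈ H := by
    have := (h.inv x).2 hx
    rwa [inv_inv] at this
  have h2 := hR _ h1
  rw [mul_smul, mul_smul, inv_smul_eq_iff] at h2
  exact h2

theorem Nz.fx_iff {H : Subgroup G} {g : G} (h : Nz H g) {R : X} : Fx H (g • R) ↔ Fx H R := by
  constructor
  · intro h1
    have := h.inv.fx h1
    rwa [inv_smul_smul] at this
  · exact h.fx

/-- the subgroup `H` is the common part of the kernels of two points -/
structure IsLine (D : Dat G X) (H : Subgroup G) : Prop where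
  ne : H ≠ ⊥
  ex : ∃ P Q, P ≠ Q ∧ ¬ D.Adj P Q ∧ D.L P Q = H

theorem IsLine.exists_one {H : Subgroup G} (hH : IsLine D H) : ∃ x ∈ H, x ≠ 1 := by
  obtain ⟨y, hy⟩ := H.ne_bot_iff_exists_ne_one.1 hH.ne
  exact ⟨y.1, y.2, fun h => hy (Subtype.ext h)⟩

theorem IsLine.exists_ne {H : Subgroup G} (hH : IsLine D H) (R : X) : ∃ S, Fx H S ∧ R ≠ S := by
  obtain ⟨P, Q, hPQ, h1, h2⟩ := hH.ex
  by_cases h : R = P
  · refine ⟨Q, ?_, by rw [h]; exact hPQ⟩
    intro x hx
    rw [← h2] at hx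
    exact D.K_le hx.2
  · refine ⟨P, ?_, h⟩
    intro x hx
    rw [← h2] at hx
    exact D.K_le hx.1

section

variable [Finite G] (N : Num D n k l f d)
include N

theorem Num.mem_L {P Q : X} {x : G} : x ∈ D.L P Q ↔ x ∈ D.K P ∧ x • Q = Q := by
  constructor
  · rintro ⟨h1, h2⟩
    exact ⟨h1, D.K_le h2⟩
  · rintro ⟨h1, h2⟩
    exact ⟨h1, N.fix_mem h1 h2⟩

theorem Num.exists_j [Finite X] : ∃ j : ℕ, ∀ {P Q : X}, P ≠ Q → ¬ D.Adj P Q → Nat.card (D.L P Q) = j := by
  have hne : Nonempty X := by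
    have h1 := N.cX
    have h2 := N.sum
    exact (Nat.card_pos_iff.1 (by omega)).1
  obtain ⟨A⟩ := hne
  obtain ⟨C, hC1, hC2⟩ := D.exN A
  refine ⟨Nat.card (D.L A C), ?_⟩
  intro P Q h1 h2
  obtain ⟨g, rfl, rfl⟩ := D.trN hC1 hC2 h1 h2
  refine (Nat.card_congr ((MulAut.conj g).toEquiv.subtypeEquiv ?_)).symm
  intro x
  exact (Dat.conj_L g).symm

end

section

variable [Finite G] (N : Num D n k l f d) {H : Subgroup G} (hH : IsLine D H)
include N hH

theorem IsLine.le_K {R : X} (hR : Fx H R) : H ≤ D.K R := by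
  obtain ⟨P, Q, hPQ, h1, h2⟩ := hH.ex
  intro x hx
  have h3 := hx
  rw [← h2] at h3
  exact N.fix_mem h3.1 (hR x hx)

theorem IsLine.nadj {R R' : X} (hR : Fx H R) (hR' : Fx H R') : ¬ D.Adj R R' := by
  obtain ⟨x, hx, hx1⟩ := hH.exists_one
  exact N.clique (hH.le_K N hR hx) hx1 (hR x hx) (hR' x hx)

theorem IsLine.eq_L [Finite X] {R R' : X} (hR : Fx H R) (hR' : Fx H R') (hne : R ≠ R') : D.L R R' = H := by
  obtain ⟨P, Q, hPQ, h1, h2⟩ := hH.ex
  obtain ⟨j, hj⟩ := N.exists_j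
  symm
  apply Subgroup.eq_of_le_of_card_ge
  · exact fun x hx => ⟨hH.le_K N hR hx, hH.le_K N hR' hx⟩
  · rw [hj hne (hH.nadj N hR hR'), ← h2, hj hPQ h1]

theorem IsLine.tr2 [Finite X] {R R' S S' : X} (hR : Fx H R) (hR' : Fx H R') (hne : R ≠ R') (hS : Fx H S) (hS' : Fx H S')
    (hne' : S ≠ S') : ∃ g : G, g • R = S ∧ g • R' = S' ∧ Nz H g := by
  obtain ⟨g, h1, h2⟩ := D.trN hne (hH.nadj N hR hR') hne' (hH.nadj N hS hS')
  refine ⟨g, h1, h2, ?_⟩
  intro x
  have h3 := Dat.conj_L (D := D) (P := R) (Q := R') (x := x) g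
  rw [h1, h2, hH.eq_L N hR hR' hne, hH.eq_L N hS hS' hne'] at h3
  exact h3

theorem IsLine.tr1 [Finite X] {R S : X} (hR : Fx H R) (hS : Fx H S) : ∃ g : G, g • R = S ∧ Nz H g := by
  obtain ⟨R', h1, h2⟩ := hH.exists_ne R
  obtain ⟨S', h3, h4⟩ := hH.exists_ne S
  obtain ⟨g, h5, -, h6⟩ := hH.tr2 N hR h1 h2 hS h3 h4
  exact ⟨g, h5, h6⟩

/-- an element of the kernel of a point of the line which fixes another point of the line -/
theorem IsLine.mem_of_fix [Finite X] {R R' : X} (hR : Fx H R) (hR' : Fx H R') (hne : R ≠ R') {x : G} (hx : x ∈ D.K R)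
    (hx' : x • R' = R') : x ∈ H := by
  rw [← hH.eq_L N hR hR' hne]
  exact (N.mem_L).2 ⟨hx, hx'⟩

/-- the whole kernel does not fix the points of a line -/
theorem IsLine.not_le [Finite X] {R : X} (hR : Fx H R) : ∃ x ∈ D.K R, x ∉ H := by
  by_contra hcon
  push Not at hcon
  obtain ⟨R', h1, h2⟩ := hH.exists_ne R
  apply h2
  symm
  refine N.lemN (P := R) (Y := D.K R) le_rfl ?_ ?_ (fun y hy => h1 y (hcon y hy))
  · intro h
    obtain ⟨x, hx, hx1⟩ := N.exists_ne R
    rw [h] at hx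
    exact hx1 (mem_bot.1 hx)
  · intro g hg y hy
    exact D.conj_mem' hy hg

end

end Cfsg.Agent.H90.R3
end

-- part: H90/R3/NT
section
/-!
# Number theory for S2207
-/

set_option autoImplicit false

namespace Cfsg.Agent.H90.R3.NT

/-- the case `i = -1` -/
theorem case_neg {v h e : ℤ} (hv : 2 ≤ v) (hh : 1 ≤ h) (he : 1 ≤ e) (hvh : h + 9 ≤ v)
    (h1 : e * (v - 5 + 3 * h) = 12 * v) (h2 : e * h * (h + v + 3) = 2 * (v * v - 1)) : False := by
  have he15 : e ≤ 15 := by
    by_contra hlt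
    push Not at hlt
    nlinarith
  have hq : ((12 - e) * v + 5 * e) * ((12 + 2 * e) * v + 14 * e) = 18 * e * (v * v - 1) := by
    have h3 : 3 * e * h = (12 - e) * v + 5 * e := by linarith
    have h4 : 3 * e * h + 3 * e * (v + 3) = (12 + 2 * e) * v + 14 * e := by rw [h3]; ring
    rw [← h3, ← h4]
    calc 3 * e * h * (3 * e * h + 3 * e * (v + 3)) = 9 * e * (e * h * (h + v + 3)) := by ring
      _ = 18 * e * (v * v - 1) := by rw [h2]; ring
  have hvb : v ≤ 60 := by
    by_contra hlt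
    push Not at hlt
    interval_cases e <;> nlinarith
  interval_cases e <;> first
    | (exfalso; nlinarith)
    | (interval_cases v <;> omega)

theorem case_zero {v h e : ℤ} (hv : 2 ≤ v) (hh : 1 ≤ h) (he : 1 ≤ e)
    (h1 : e * (v - 1 + 2 * h) = 4 * v) (h2 : e * h * (h + v + 3) = 2 * (v * v - 1)) :
    v = 11 ∧ h = 6 ∧ e = 2 := by
  have he3 : e ≤ 3 := by
    by_contra hlt
    push Not at hlt
    nlinarith
  interval_cases e
  · exfalso
    have h3 : 2 * h = 3 * v + 1 := by linarith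
    have h4 : (2 * h) * (2 * h + 2 * v + 6) = 8 * (v * v - 1) := by nlinarith
    rw [h3] at h4
    nlinarith
  · have h3 : 2 * h = v + 1 := by linarith
    have h4 : (v + 1) * (h + v + 3) = 2 * (v - 1) * (v + 1) := by rw [← h3]; nlinarith
    have h5 : h + v + 3 = 2 * (v - 1) := by
      have : (v + 1) * (h + v + 3 - 2 * (v - 1)) = 0 := by linarith
      rcases mul_eq_zero.1 this with h6 | h6 <;> linarith
    refine ⟨by linarith, by linarith, rfl⟩
  · exfalso
    have h3 : 6 * h = v + 3 := by linarith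
    have h4 : (6 * h) * (6 * h + 6 * v + 18) = 24 * (v * v - 1) := by nlinarith
    rw [h3] at h4
    have hvb : v ≤ 6 := by
      by_contra hlt
      push Not at hlt
      nlinarith
    interval_cases v <;> omega

theorem case_pos {v h e : ℤ} (hv : 2 ≤ v) (hh : 1 ≤ h) (he : 1 ≤ e)
    (h1 : e * (3 * v + 5 * h + 1) = 4 * v) (h2 : e * h * (h + v + 3) = 2 * (v * v - 1)) : False := by
  have he1 : e = 1 := by
    by_contra hne
    have : 2 ≤ e := by omega
    nlinarith
  subst he1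
  have h3 : v = 5 * h + 1 := by linarith
  subst h3
  nlinarith

/-- **The number theoretic core**, `d` even. -/
theorem core {mu g v z b : ℤ} (hmu : 2 ≤ mu) (hev : Even mu) (hg : 2 ≤ g) (hv : 1 ≤ v) (hdvd : g + 2 ∣ 2 * mu)
    (hvv : v * v - 1 = mu * (g - 1 - v)) (hb : 0 ≤ b) (hz : -2 ≤ z)
    (h1 : mu + 2 * v ∣ (1 + mu * g) * z)
    (h2 : 2 * (mu + 2 * v) * b = 2 * (v * (1 + g) + 1) - mu * g * z) :
    (g = 2 ∧ mu = 2 ∧ v = 1) ∨ (g = 2 ∧ mu = 4 ∧ v = 1) ∨ (g = 18 ∧ mu = 20 ∧ v = 11) := by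
  obtain ⟨m, hm⟩ := hev
  obtain ⟨e, he⟩ := hdvd
  -- `z` is even
  have hdz : mu + 2 * v ∣ 2 * (v * (1 + g) + 1) + z := by
    have : 2 * (v * (1 + g) + 1) + z = (mu + 2 * v) * (2 * b) + (1 + mu * g) * z := by linarith
    rw [this]
    exact dvd_add (dvd_mul_right _ _) h1
  have hzev : Even z := by
    obtain ⟨c, hc⟩ := hdz
    refine ⟨(m + v) * c - (v * (1 + g) + 1), ?_⟩
    have : mu + 2 * v = 2 * (m + v) := by omega
    rw [this] at hc
    linarith
  obtain ⟨w, hw⟩ := hzev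
  rcases eq_or_lt_of_le hv with hv1 | hv2
  · -- `v = 1`
    subst hv1
    have hg2 : g = 2 := by
      have h3 : mu * (g - 1 - 1) = 0 := by linarith
      rcases mul_eq_zero.1 h3 with h4 | h4 <;> omega
    subst hg2
    have hw1 : w ≤ 1 := by
      by_contra hlt
      push Not at hlt
      nlinarith
    have hw2 : -1 ≤ w := by omega
    interval_cases w
    · -- `z = -2`
      right; left
      refine ⟨rfl, ?_, rfl⟩
      have h3 : mu + 2 ∣ 6 := by
        have h4 : (6 : ℤ) = (1 + mu * 2) * z + (mu + 2 * 1) * 4 := by rw [hw]; ring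
        have h5 : mu + 2 * 1 ∣ 6 := by
          rw [h4]
          exact dvd_add h1 (dvd_mul_right _ _)
        simpa using h5
      have h4 := Int.le_of_dvd (by norm_num) h3
      have : mu = 2 ∨ mu = 3 ∨ mu = 4 := by omega
      rcases this with h | h | h
      · subst h; norm_num at h3
      · omega
      · exact h
    · -- `z = 0`
      left
      refine ⟨rfl, ?_, rfl⟩
      have h3 : (mu + 2) * b = 4 := by rw [hw] at h2; linarith
      have h4 : mu + 2 ∣ 4 := ⟨b, h3.symm⟩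
      have h5 := Int.le_of_dvd (by norm_num) h4
      omega
    · -- `z = 2`
      exfalso
      have h3 : (mu + 2) * b = 4 - 2 * mu := by rw [hw] at h2; linarith
      have h4 : mu = 2 := by nlinarith
      subst h4
      rw [hw] at h1
      norm_num at h1
  · -- `v ≥ 2`
    have hv2' : 2 ≤ v := by omega
    set h := g - 1 - v with hh
    have hh1 : 1 ≤ h := by
      by_contra hlt
      push Not at hlt
      nlinarith
    have hgv : g = v + 1 + h := by omega
    have hg2mu : g + 2 ≤ 2 * mu := Int.le_of_dvd (by omega) ⟨e, he⟩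
    have he1 : 1 ≤ e := by
      by_contra hlt
      push Not at hlt
      nlinarith
    have hw1 : w ≤ 1 := by
      by_contra hlt
      push Not at hlt
      have h3 : mu * g * z ≤ 2 * (v * (1 + g) + 1) := by nlinarith
      have h4 : 4 * (mu * g) ≤ mu * g * z := by nlinarith [mul_pos (by omega : (0 : ℤ) < mu) (by omega : (0 : ℤ) < g)]
      have h5 : v ≤ g - 2 := by omega
      nlinarith
    have hw2 : -1 ≤ w := by omega
    set q := m + v with hq
    have hS : mu + 2 * v = 2 * q := by omega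
    have hmuq : mu = 2 * q - 2 * v := by omega
    interval_cases w
    · -- `z = -2`
      exfalso
      have hz' : z = -2 := by omega
      have h3 : q ∣ 1 + mu * g := by
        rw [hS, hz'] at h1
        obtain ⟨c, hc⟩ := h1
        exact ⟨-c, by linarith⟩
      have h4 : q ∣ v * (1 + g) := by
        rw [hS, hz'] at hdz
        obtain ⟨c, hc⟩ := hdz
        exact ⟨c, by linarith⟩
      have h5 : q ∣ 2 * v + 1 := by
        obtain ⟨c, hc⟩ := h3
        obtain ⟨c', hc'⟩ := h4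
        exact ⟨c - 2 * g + 2 * c', by rw [hmuq] at hc; linear_combination hc + 2 * hc'⟩
      have h6 : q = 2 * v + 1 := by
        obtain ⟨c, hc⟩ := h5
        have hq1 : v + 1 ≤ q := by omega
        have hc0 : 1 ≤ c := by
          by_contra hlt
          push Not at hlt
          nlinarith
        have hc1 : c ≤ 1 := by
          by_contra hlt
          push Not at hlt
          nlinarith
        have : c = 1 := le_antisymm hc1 hc0
        rw [this] at hc
        linarith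
      have h7 : 2 * h = v - 1 := by
        have h8 : v * v - 1 = (2 * v + 2) * h := by rw [hvv, hmuq, h6]; ring
        have h9 : (v + 1) * (v - 1 - 2 * h) = 0 := by linarith
        rcases mul_eq_zero.1 h9 with h10 | h10 <;> linarith
      have h8 : 2 * v + 1 ∣ 3 := by
        rw [← h6]
        obtain ⟨c, hc⟩ := h4
        refine ⟨(2 * v + 1) * 3 - 8 * c, ?_⟩
        rw [h6] at hc ⊢
        rw [hgv] at hc
        have h10 : v * (3 * v + 3) = 2 * ((2 * v + 1) * c) := by
          rw [← hc]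
          linear_combination (-v) * h7
        linear_combination (-4) * h10
      have h9 := Int.le_of_dvd (by norm_num) h8
      omega
    · -- `z = 0`
      right; right
      have hz' : z = 0 := by omega
      rw [hz'] at h2
      have h3 : (mu + 2 * v) * b = v * (1 + g) + 1 := by linarith
      have hb1 : 1 ≤ b := by
        by_contra hlt
        push Not at hlt
        have : b = 0 := by omega
        rw [this] at h3
        nlinarith
      have he2 : e * h * (h + v + 3) = 2 * (v * v - 1) := by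
        rw [hvv]
        have : g + 2 = h + v + 3 := by omega
        rw [this] at he
        linear_combination (-h) * he
      set B := g + 2 with hB
      have hBv : B = h + v + 3 := by omega
      have h4 : B ∣ 2 * (2 * b + 1 - v) := by
        -- `B ∣ 4 v b + 2 v - 2` and `B ∣ 2 (v² - 1)`
        have h5 : 4 * v * b + 2 * v - 2 = B * (2 * v - e * b) := by
          have : g = B - 2 := by omega
          rw [this] at h3
          linear_combination 2 * h3 - b * he
        have h6 : 2 * (v * v - 1) = B * (e * h) := by rw [← he2, hBv]; ring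
        refine ⟨v * (2 * v - e * b) - (2 * b + 1) * (e * h), ?_⟩
        linear_combination v * h5 - (2 * b + 1) * h6
      obtain ⟨i, hi⟩ := h4
      have hBpos : 0 < B := by omega
      have hi1 : i ≤ 1 := by
        by_contra hlt
        push Not at hlt
        have h5 : 2 * b < B := by
          by_contra h6
          push Not at h6
          have : g = B - 2 := by omega
          rw [this] at h3
          nlinarith
        nlinarith
      have hi2 : -1 ≤ i := by
        by_contra hlt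
        push Not at hlt
        nlinarith
      have hmu0 : mu ≠ 0 := by omega
      have key : ∀ x y : ℤ, mu * x = y * B → e * x = 2 * y := by
        intro x y hxy
        have h6 : B * (e * x - 2 * y) = 0 := by linear_combination 2 * hxy - x * he
        rcases mul_eq_zero.1 h6 with h7 | h7
        · omega
        · linarith
      have hgB : g = B - 2 := by omega
      rw [hgB] at h3
      interval_cases i
      · exfalso
        have h5 : 4 * b = 2 * v - 2 - B := by linarith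
        have h6 : mu * (2 * v - 2 - B + 4 * h) = 6 * v * B := by
          linear_combination 4 * h3 - (mu + 2 * v) * h5 - 4 * hvv
        have h7 := key _ _ h6
        have h8 : e * (v - 5 + 3 * h) = 12 * v := by rw [hBv] at h7; linear_combination h7
        exact case_neg hv2' hh1 he1 (by omega) h8 he2
      · have h5 : 2 * b = v - 1 := by linarith
        have h6 : mu * (v - 1 + 2 * h) = 2 * v * B := by
          linear_combination 2 * h3 - (mu + 2 * v) * h5 - 2 * hvv
        have h7 := key _ _ h6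
        have h8 : e * (v - 1 + 2 * h) = 4 * v := by linear_combination h7
        obtain ⟨h9, h10, h11⟩ := case_zero hv2' hh1 he1 h8 he2
        refine ⟨by omega, ?_, h9⟩
        rw [h11] at he
        omega
      · exfalso
        have h5 : 4 * b = B + 2 * v - 2 := by linarith
        have h6 : mu * (B + 2 * v - 2 + 4 * h) = 2 * v * B := by
          linear_combination 4 * h3 - (mu + 2 * v) * h5 - 4 * hvv
        have h7 := key _ _ h6
        have h8 : e * (3 * v + 5 * h + 1) = 4 * v := by rw [hBv] at h7; linear_combination h7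
        exact case_pos hv2' hh1 he1 h8 he2
    · -- `z = 2`
      exfalso
      have hz' : z = 2 := by omega
      have h3 : q ∣ 1 + mu * g := by
        rw [hS, hz'] at h1
        obtain ⟨c, hc⟩ := h1
        exact ⟨c, by linarith⟩
      have h4 : q ∣ v * (1 + g) + 2 := by
        rw [hS, hz'] at hdz
        obtain ⟨c, hc⟩ := hdz
        exact ⟨c, by linarith⟩
      have h5 : q ∣ 2 * v + 5 := by
        obtain ⟨c, hc⟩ := h3
        obtain ⟨c', hc'⟩ := h4
        exact ⟨c - 2 * g + 2 * c', by rw [hmuq] at hc; linear_combination hc + 2 * hc'⟩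
      have hq1 : v + 1 ≤ q := by omega
      obtain ⟨c, hc⟩ := h5
      have hc0 : 1 ≤ c := by
        by_contra hlt
        push Not at hlt
        nlinarith
      have hcodd : c ≠ 2 := by
        intro h6
        rw [h6] at hc
        omega
      by_cases hc1 : c = 1
      · have h6 : q = 2 * v + 5 := by rw [hc1] at hc; linarith
        have h7 : (2 * v + 10) * h = v * v - 1 := by rw [hvv, hmuq, h6]; ring
        have h8 : 2 * v + 5 ∣ 25 := by
          obtain ⟨c', hc'⟩ := h4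
          rw [h6] at hc'
          rw [hgv] at hc'
          -- 40 (v (v + 2 + h) + 2) ≡ 25
          refine ⟨40 * c' - (4 * v * v + 10 * v + 11) + 8 * v * h, ?_⟩
          linear_combination 40 * hc' + (-8 * v) * h7
        have h9 := Int.le_of_dvd (by norm_num) h8
        have h10 : v ≤ 10 := by omega
        interval_cases v <;> omega
      · have hc3 : 3 ≤ c := by omega
        have h6 : v = 2 := by nlinarith
        subst h6
        have h7 : q = 3 := by
          have h8 : q ∣ 9 := ⟨c, by linarith⟩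
          have h9 : q * 3 ≤ 9 := by nlinarith
          omega
        have h8 : mu = 2 := by omega
        rw [h8] at hvv
        omega

end Cfsg.Agent.H90.R3.NT
end

-- part: H90/R3/EvenFree
section
/-!
# Rank three groups with a Frobenius suborbit: even complement, kernel semiregular off its fixed point. Counting.
-/

set_option autoImplicit false

namespace Cfsg.Agent.H90.R3

open Subgroup

variable {G X : Type*} [Group G] [MulAction G X] {D : Dat G X} {n k l f d : ℕ}

/-- the fixed points of an involution -/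
theorem card_fix_inv [Finite G] [Finite X] (N : Num D n k l f d) (hf : Even f) {P : X} {t : G} (ht : Inv G P t) :
    Nat.card {Q : X // t • Q = Q} = 2 + Nat.card {Q : X // (P ≠ Q ∧ ¬ D.Adj P Q) ∧ t • Q = Q} := by
  rw [card_erase (fun Q => t • Q = Q) (a := P) ht.2.2, card_split (fun Q => t • Q = Q ∧ P ≠ Q) (fun Q => D.Adj P Q)]
  have h1 : Nat.card {x // (t • x = x ∧ P ≠ x) ∧ D.Adj P x} = 1 := by
    rw [Nat.card_eq_one_iff_unique]
    obtain ⟨Q, hQ1, hQ2, hQ3⟩ := unique_nbr N hf ht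
    refine ⟨⟨?_⟩, ⟨⟨Q, ⟨hQ2, Dat.ne_of_adj hQ1⟩, hQ1⟩⟩⟩
    rintro ⟨x, ⟨hx1, hx2⟩, hx3⟩ ⟨y, ⟨hy1, hy2⟩, hy3⟩
    exact Subtype.ext ((hQ3 x hx3 hx1).trans (hQ3 y hy3 hy1).symm)
  have h2 : Nat.card {x // (t • x = x ∧ P ≠ x) ∧ ¬ D.Adj P x} =
      Nat.card {Q : X // (P ≠ Q ∧ ¬ D.Adj P Q) ∧ t • Q = Q} :=
    Nat.card_congr (Equiv.subtypeEquivRight fun R => by tauto)
  rw [h1, h2]
  ring

/-- the number of involutions moving `P` to `Q` -/
theorem card_move [Finite G] [Finite X] (N : Num D n k l f d) (P : X) :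
    ∃ ι ι' : ℕ, ι ≤ f ∧ ι' ≤ d ∧
      Nat.card {t : G // ∃ R : X, Inv G R t} = Nat.card {t : G // Inv G P t} + k * ι + l * ι' := by
  obtain ⟨B, hB⟩ := D.exA P
  obtain ⟨C, hC1, hC2⟩ := D.exN P
  have hconj : ∀ (g : G) (Q : X), g • P = P → Nat.card {t : G // (∃ R : X, Inv G R t) ∧ t • P = g • Q} =
      Nat.card {t : G // (∃ R : X, Inv G R t) ∧ t • P = Q} := by
    intro g Q hg
    have hg' : g⁻¹ • P = P := by rw [inv_smul_eq_iff, hg]
    refine Nat.card_congr ⟨fun t => ⟨g⁻¹ * t.1 * g, ?_, ?_⟩, fun t => ⟨g * t.1 * g⁻¹, ?_, ?_⟩, ?_, ?_⟩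
    · obtain ⟨R, hR⟩ := t.2.1
      have := hR.conj g⁻¹
      rw [inv_inv] at this
      exact ⟨_, this⟩
    · rw [mul_smul, mul_smul, hg, t.2.2, inv_smul_smul]
    · obtain ⟨R, hR⟩ := t.2.1
      exact ⟨_, hR.conj g⟩
    · rw [mul_smul, mul_smul, hg', t.2.2]
    · intro t; apply Subtype.ext; simp [mul_assoc]
    · intro t; apply Subtype.ext; simp [mul_assoc]
  have hbd : ∀ {Q : X} {c : ℕ}, (∃ g : G, g • P = Q ∧ g • Q = P) → Nat.card {g : G // g • P = P ∧ g • Q = Q} = c →
      Nat.card {t : G // (∃ R : X, Inv G R t) ∧ t • P = Q} ≤ c := by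
    rintro Q c ⟨g, h1, h2⟩ hc
    rw [← hc, ← coset2 h1 h2]
    refine Nat.card_le_card_of_injective (fun t : {t : G // (∃ R : X, Inv G R t) ∧ t • P = Q} =>
      (⟨t.1, t.2.2, ?_⟩ : {g : G // g • P = Q ∧ g • Q = P})) ?_
    · obtain ⟨⟨R, hR⟩, ht⟩ := t.2
      calc t.1 • Q = t.1 • (t.1 • P) := by rw [ht]
        _ = P := by rw [← mul_smul, hR.2.1, one_smul]
    · intro a b hab
      have h3 := congrArg Subtype.val hab
      exact Subtype.ext h3
  refine ⟨Nat.card {t : G // (∃ R : X, Inv G R t) ∧ t • P = B}, Nat.card {t : G // (∃ R : X, Inv G R t) ∧ t • P = C},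
    hbd (D.trA hB (D.symm hB)) (N.sA hB), hbd (D.trN hC1 hC2 hC1.symm (fun h => hC2 (D.symm h))) (N.sN hC1 hC2), ?_⟩
  rw [card_split (fun t : G => ∃ R : X, Inv G R t) (fun t => D.Adj P (t • P)),
    card_split (fun t : G => (∃ R : X, Inv G R t) ∧ ¬ D.Adj P (t • P)) (fun t => t • P = P)]
  have e1 : Nat.card {t : G // (∃ R : X, Inv G R t) ∧ D.Adj P (t • P)} =
      k * Nat.card {t : G // (∃ R : X, Inv G R t) ∧ t • P = B} := by
    have h := dc (α := {t : G // (∃ R : X, Inv G R t) ∧ D.Adj P (t • P)}) (β := {Q // D.Adj P Q})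
      (fun t Q => t.1 • P = Q.1) (x := 1) (y := Nat.card {t : G // (∃ R : X, Inv G R t) ∧ t • P = B}) ?_ ?_
    · rw [mul_one] at h
      rw [h, N.cA]
    · rintro ⟨t, ht1, ht2⟩
      rw [Nat.card_eq_one_iff_unique]
      refine ⟨⟨fun a b => Subtype.ext (Subtype.ext (a.2.symm.trans b.2))⟩, ⟨⟨⟨t • P, ht2⟩, rfl⟩⟩⟩
    · rintro ⟨Q, hQ⟩
      obtain ⟨g, hg1, hg2⟩ := D.trA hB hQ
      rw [← hconj g B hg1, hg2]
      exact Nat.card_congr ⟨fun t => ⟨t.1.1, t.1.2.1, t.2⟩, fun t => ⟨⟨t.1, t.2.1, by rw [t.2.2]; exact hQ⟩, t.2.2⟩,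
        fun t => rfl, fun t => rfl⟩
  have e2 : Nat.card {t : G // ((∃ R : X, Inv G R t) ∧ ¬ D.Adj P (t • P)) ∧ t • P = P} =
      Nat.card {t : G // Inv G P t} := by
    refine Nat.card_congr (Equiv.subtypeEquivRight fun t => ?_)
    constructor
    · rintro ⟨⟨⟨R, hR⟩, -⟩, h⟩
      exact ⟨hR.1, hR.2.1, h⟩
    · intro h
      exact ⟨⟨⟨P, h⟩, by rw [h.2.2]; exact D.irr P⟩, h.2.2⟩
  have e3 : Nat.card {t : G // ((∃ R : X, Inv G R t) ∧ ¬ D.Adj P (t • P)) ∧ ¬ t • P = P} =
      l * Nat.card {t : G // (∃ R : X, Inv G R t) ∧ t • P = C} := by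
    have h := dc (α := {t : G // ((∃ R : X, Inv G R t) ∧ ¬ D.Adj P (t • P)) ∧ ¬ t • P = P})
      (β := {Q // P ≠ Q ∧ ¬ D.Adj P Q})
      (fun t Q => t.1 • P = Q.1) (x := 1) (y := Nat.card {t : G // (∃ R : X, Inv G R t) ∧ t • P = C}) ?_ ?_
    · rw [mul_one] at h
      rw [h, N.cN]
    · rintro ⟨t, ⟨ht1, ht2⟩, ht3⟩
      rw [Nat.card_eq_one_iff_unique]
      refine ⟨⟨fun a b => Subtype.ext (Subtype.ext (a.2.symm.trans b.2))⟩,
        ⟨⟨⟨t • P, fun h => ht3 h.symm, ht2⟩, rfl⟩⟩⟩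
    · rintro ⟨Q, hQ1, hQ2⟩
      obtain ⟨g, hg1, hg2⟩ := D.trN hC1 hC2 hQ1 hQ2
      rw [← hconj g C hg1, hg2]
      exact Nat.card_congr ⟨fun t => ⟨t.1.1, t.1.2.1.1, t.2⟩,
        fun t => ⟨⟨t.1, ⟨t.2.1, by rw [t.2.2]; exact hQ2⟩, fun h => hQ1 (h.symm.trans t.2.2)⟩, t.2.2⟩,
        fun t => rfl, fun t => rfl⟩
  rw [e1, e2, e3]
  ring

section

variable [Finite G] [Finite X] (N : Num D n k l f d) (hf : Even f)
  (hD : ∀ {P Q : X} {x : G}, x ∈ D.K P → x • Q = Q → P ≠ Q → x = 1)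
include N hD

theorem exists_g : ∃ g : ℕ, l = k * g ∧ f = g * d ∧ 1 ≤ g := by
  have hne : Nonempty X := by
    have h1 := N.cX
    have h2 := N.sum
    exact (Nat.card_pos_iff.1 (by omega)).1
  obtain ⟨P⟩ := hne
  have h1 : Nat.card (D.K P) ∣ Nat.card {Q // P ≠ Q ∧ ¬ D.Adj P Q} := by
    apply free_dvd
    · rintro g hg Q ⟨hQ1, hQ2⟩
      have hgP := D.K_le hg
      refine ⟨fun h => hQ1 (smul_left_cancel g (hgP.trans h)), fun h => hQ2 ?_⟩
      rw [← D.adj_smul_iff g, hgP]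
      exact h
    · rintro g hg Q ⟨hQ1, hQ2⟩ h
      exact hD hg h hQ1
  rw [N.cK, N.cN] at h1
  obtain ⟨g, hg⟩ := h1
  have h2 := N.cS'
  have hk := N.k2
  have hf2 := N.f2
  rw [hg, mul_assoc] at h2
  have h3 := Nat.eq_of_mul_eq_mul_left (by omega) h2
  refine ⟨g, hg, h3, ?_⟩
  by_contra hlt
  have : g = 0 := by omega
  rw [this, zero_mul] at h3
  omega

include hf

/-- the number of fixed points of an involution -/
theorem m_eq {m : ℕ} (hm : ∀ {P : X} {t : G}, Inv G P t → Nat.card {Q : X // t • Q = Q} = m) {g : ℕ} (hg : l = k * g) :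
    (Odd d → m = 2) ∧ (Even d → m = g + 2) := by
  have hne : Nonempty X := by
    have h1 := N.cX
    have h2 := N.sum
    exact (Nat.card_pos_iff.1 (by omega)).1
  obtain ⟨P⟩ := hne
  obtain ⟨t₀, ht₀⟩ := exists_inv N hf P
  have hm2 : 2 ≤ m := by
    rw [← hm ht₀, card_fix_inv N hf ht₀]
    omega
  have key : ∀ j0 : ℕ, (∀ Q : X, P ≠ Q → ¬ D.Adj P Q → Nat.card {t : G // Inv G P t ∧ t • Q = Q} = j0) →
      k * (m - 2) = l * j0 := by
    intro j0 hj
    have h := dc (α := {t : G // Inv G P t}) (β := {Q // P ≠ Q ∧ ¬ D.Adj P Q}) (fun t Q => t.1 • Q.1 = Q.1)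
      (x := m - 2) (y := j0) ?_ ?_
    · rwa [card_inv N hf, N.cN] at h
    · rintro ⟨t, ht⟩
      have h1 := card_fix_inv N hf ht
      rw [hm ht] at h1
      have h2 : m - 2 = Nat.card {Q : X // (P ≠ Q ∧ ¬ D.Adj P Q) ∧ t • Q = Q} := by omega
      rw [h2]
      exact Nat.card_congr ⟨fun Q => ⟨Q.1.1, Q.1.2, Q.2⟩, fun Q => ⟨⟨Q.1, Q.2.1⟩, Q.2.2⟩, fun _ => rfl, fun _ => rfl⟩
    · rintro ⟨Q, hQ1, hQ2⟩
      rw [← hj Q hQ1 hQ2]
      exact Nat.card_congr ⟨fun t => ⟨t.1.1, t.1.2, t.2⟩, fun t => ⟨⟨t.1, t.2.1⟩, t.2.2⟩, fun _ => rfl, fun _ => rfl⟩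
  have hk := N.k2
  have hcard : ∀ {Q : X}, P ≠ Q → ¬ D.Adj P Q → Nat.card ↥(MulAction.stabilizer G P ⊓ MulAction.stabilizer G Q) = d :=
    fun h1 h2 => by rw [← N.sN h1 h2]; rfl
  constructor
  · intro hd
    have h1 := key 0 (by
      intro Q hQ1 hQ2
      rw [Nat.card_eq_zero]
      left
      refine ⟨?_⟩
      rintro ⟨t, ht, htQ⟩
      have h2 : (⟨t, ht.2.2, htQ⟩ : ↥(MulAction.stabilizer G P ⊓ MulAction.stabilizer G Q)) ^
        Nat.card ↥(MulAction.stabilizer G P ⊓ MulAction.stabilizer G Q) = 1 := pow_card_eq_one'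
      rw [hcard hQ1 hQ2] at h2
      have h3 : t ^ d = 1 := congrArg Subtype.val h2
      obtain ⟨c, hc⟩ := hd
      rw [hc, pow_add, pow_mul, pow_two, ht.2.1, one_pow, one_mul, pow_one] at h3
      exact ht.1 h3)
    rw [mul_zero] at h1
    have : m - 2 = 0 := by
      rcases Nat.mul_eq_zero.1 h1 with h | h <;> omega
    omega
  · intro hd
    have h1 := key 1 (by
      intro Q hQ1 hQ2
      rw [Nat.card_eq_one_iff_unique]
      refine ⟨⟨?_⟩, ?_⟩
      · rintro ⟨t, ht, htQ⟩ ⟨t', ht', htQ'⟩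
        have h2 := hD (mul_mem_K N hf ht ht') (by rw [mul_smul, htQ', htQ]) hQ1
        apply Subtype.ext
        show t = t'
        rw [eq_inv_of_mul_eq_one_left h2, ht'.inv_eq]
      · obtain ⟨⟨t, ht1, ht2⟩, ht⟩ := exists_prime_orderOf_dvd_card'
          (G := ↥(MulAction.stabilizer G P ⊓ MulAction.stabilizer G Q)) 2 (by rw [hcard hQ1 hQ2]; exact hd.two_dvd)
        refine ⟨⟨t, ⟨?_, ?_, ht1⟩, ht2⟩⟩
        · rintro rfl
          have h2 : (⟨1, ht1, ht2⟩ : ↥(MulAction.stabilizer G P ⊓ MulAction.stabilizer G Q)) = 1 := rfl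
          rw [h2, orderOf_one] at ht
          omega
        · have h3 : (⟨t, ht1, ht2⟩ : ↥(MulAction.stabilizer G P ⊓ MulAction.stabilizer G Q)) ^ 2 = 1 := by
            rw [← ht, pow_orderOf_eq_one]
          rw [← pow_two]
          exact congrArg Subtype.val h3)
    rw [mul_one, hg] at h1
    have := Nat.eq_of_mul_eq_mul_left (by omega) h1
    omega

/-- the basic equation -/
theorem basic_eq {g : ℕ} (hg : l = k * g) :
    ∃ m ι ι' : ℕ, (∀ {P : X} {t : G}, Inv G P t → Nat.card {Q : X // t • Q = Q} = m) ∧ ι ≤ f ∧ ι' ≤ d ∧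
      n = m * (1 + ι + g * ι') ∧ (Odd d → m = 2) ∧ (Even d → m = g + 2) := by
  have hne : Nonempty X := by
    have h1 := N.cX
    have h2 := N.sum
    exact (Nat.card_pos_iff.1 (by omega)).1
  obtain ⟨P⟩ := hne
  obtain ⟨m, hm⟩ := exists_m N hf
  obtain ⟨ι, ι', h1, h2, h3⟩ := card_move N P
  have h4 := card_T N hf hm
  rw [h3, card_inv N hf, hg] at h4
  obtain ⟨h5, h6⟩ := m_eq N hf hD hm hg
  have hk := N.k2
  refine ⟨m, ι, ι', hm, h1, h2, ?_, h5, h6⟩
  have h7 : k * n = k * (m * (1 + ι + g * ι')) := by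
    calc k * n = n * k := mul_comm _ _
      _ = (k + k * ι + k * g * ι') * m := h4.symm
      _ = _ := by ring
  exact Nat.eq_of_mul_eq_mul_left (by omega) h7

/-- `g ≥ 2` -/
theorem g_ge {g : ℕ} (hg : l = k * g) (hfg : f = g * d) : 2 ≤ g := by
  have hf2 := N.f2
  by_contra hlt
  have hg1 : g = 1 := by
    rcases Nat.lt_or_ge g 1 with h | h
    · have : g = 0 := by omega
      rw [this, zero_mul] at hfg
      omega
    · omega
  obtain ⟨m, ι, ι', hm, -, -, -, -, h6⟩ := basic_eq N hf hD hg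
  have hde : Even d := by rw [hfg, hg1, one_mul] at hf; exact hf
  have hm3 := h6 hde
  have hne : Nonempty X := by
    have h1 := N.cX
    have h2 := N.sum
    exact (Nat.card_pos_iff.1 (by omega)).1
  obtain ⟨P⟩ := hne
  obtain ⟨t, ht⟩ := exists_inv N hf P
  have h1 := card_fix_inv N hf ht
  rw [hm ht, hm3, hg1] at h1
  have h2 : Nat.card {Q : X // (P ≠ Q ∧ ¬ D.Adj P Q) ∧ t • Q = Q} = 1 := by omega
  obtain ⟨⟨C, ⟨hC1, hC2⟩, hC3⟩⟩ := (Nat.card_eq_one_iff_unique.1 h2).2
  obtain ⟨B, hB1, hB2, hB3⟩ := unique_nbr N hf ht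
  have htC : Inv G C t := ⟨ht.1, ht.2.1, hC3⟩
  have htB : Inv G B t := ⟨ht.1, ht.2.1, hB2⟩
  obtain ⟨C', hC'1, hC'2, hC'3⟩ := unique_nbr N hf htC
  obtain ⟨B', hB'1, hB'2, hB'3⟩ := unique_nbr N hf htB
  have hB'P : P = B' := hB'3 P (D.symm hB1) ht.2.2
  have hC'P : C' ≠ P := by
    rintro rfl
    exact hC2 (D.symm hC'1)
  have hC'B : C' ≠ B := by
    rintro rfl
    have := hB'3 C (D.symm hC'1) hC3
    exact hC1 (hB'P.trans this.symm)
  have hC'C : C' ≠ C := (Dat.ne_of_adj hC'1).symm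
  have hCB : C ≠ B := by
    rintro rfl
    exact hC2 hB1
  by_cases h4 : D.Adj P C'
  · exact hC'B (hB3 C' h4 hC'2)
  · have h5 := (Nat.card_eq_one_iff_unique.1 h2).1
    exact hC'C (congrArg Subtype.val (h5.elim ⟨C', ⟨hC'P.symm, h4⟩, hC'2⟩ ⟨C, ⟨hC1, hC2⟩, hC3⟩))

end

end Cfsg.Agent.H90.R3
end
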